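import Groth.Agent.AVTrace.Dual
import Groth.Agent.S11999
import Groth.Agent.H23.MaxAbelian
import Groth.Agent.AVRoots.Stab
import Groth.Agent.GrpSchLib.CharZeroPts

/-!
# Transposes on points, and quasi-sections of surjective homomorphisms
-/

noncomputable section

set_option autoImplicit false
set_option linter.style.haveILetI false
set_option linter.unusedSectionVars false
set_option backward.isDefEq.respectTransparency false
set_option backward.isDefEq.respectTransparency.types false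
set_option maxHeartbeats 1000000

universe u

open CategoryTheory CategoryTheory.Limits MonoidalCategory CartesianMonoidalCategory MonObj AlgebraicGeometry TopologicalSpace

namespace Groth.Agent.AVTrace

open Groth.Agent Groth.Agent.H23 Groth.Agent.H23.TrivBasic Groth.Agent.AVCube Groth.Agent.AVPair Groth.Agent.AVTheta8
open Groth.Agent.VolLib Groth.Agent.AVDual
open scoped Groth.Agent.H23.PicMul

variable {k : Type u} [Field k] [IsAlgClosed k]

local notation "pt₀" => 𝟙_ (Over (Spec (CommRingCat.of k)))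

variable {A B : Over (Spec (CommRingCat.of k))}
  [GrpObj A] [IsCommMonObj A] [IsProper A.hom] [GeometricallyIntegral A.hom]
  [GrpObj B] [IsCommMonObj B] [IsProper B.hom] [GeometricallyIntegral B.hom]

/-- A homomorphism with finite kernel is finite. -/
theorem isFinite_of_finite_ker (l : A ⟶ B) [IsMonHom l] (hker : Set.Finite {a : pt₀ ⟶ A | a ≫ l = 1}) :
    IsFinite l.left := by
  haveI : IsProper l.left := by
    haveI : IsProper (l.left ≫ B.hom) := by rw [Over.w]; infer_instance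
    exact IsProper.of_comp l.left B.hom
  haveI : JacobsonSpace A.left := LocallyOfFiniteType.jacobsonSpace A.hom
  haveI : LocallyQuasiFinite l.left := AVAmple.locallyQuasiFinite_of_closed l.left fun q hq => by
    have hclosed : IsClosed (l.left ⁻¹' {q}) := hq.preimage l.left.continuous
    have hpts : (l.left ⁻¹' {q} ∩ closedPoints A.left).Finite := by
      rcases (l.left ⁻¹' {q} ∩ closedPoints A.left).eq_empty_or_nonempty with he | ⟨x₀, hx₀, hx₀c⟩
      · rw [he]; exact Set.finite_empty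
      obtain ⟨a₀, rfl⟩ := AVAmple.exists_pt (mem_closedPoints_iff.1 hx₀c)
      refine ((hker.image (a₀ * ·)).image AVAmple.pt).subset ?_
      rintro x ⟨hx, hxc⟩
      obtain ⟨a, rfl⟩ := AVAmple.exists_pt (mem_closedPoints_iff.1 hxc)
      have he : a ≫ l = a₀ ≫ l :=
        AVTheta8.pt_injective (show l.left (AVAmple.pt a) = l.left (AVAmple.pt a₀) from hx.trans hx₀.symm)
      exact ⟨a, ⟨a₀⁻¹ * a, by
        show (a₀⁻¹ * a) ≫ l = 1
        rw [MonObj.mul_comp, GrpObj.inv_comp, he, inv_mul_cancel], mul_inv_cancel_left _ _⟩, rfl⟩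
    have hcl : IsClosed (l.left ⁻¹' {q} ∩ closedPoints A.left) := by
      rw [← Set.biUnion_of_singleton (_ ∩ closedPoints A.left)]
      exact hpts.isClosed_biUnion fun y hy => mem_closedPoints_iff.1 hy.2
    have hsub : l.left ⁻¹' {q} ⊆ l.left ⁻¹' {q} ∩ closedPoints A.left := fun y hy => by
      by_contra hn
      obtain ⟨z, ⟨hz, hz'⟩, hzc⟩ := nonempty_inter_closedPoints
        (Z := l.left ⁻¹' {q} ∩ (l.left ⁻¹' {q} ∩ closedPoints A.left)ᶜ) ⟨y, hy, hn⟩
        (hclosed.isLocallyClosed.inter hcl.isOpen_compl.isLocallyClosed)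
      exact hz' ⟨hz, hzc⟩
    exact hpts.subset hsub
  exact IsFinite.of_isProper_of_locallyQuasiFinite l.left

/-- Homomorphisms agreeing on rational points agree. -/
theorem hom_eq_of_pts (u v : A ⟶ B) (h : ∀ x : pt₀ ⟶ A, x ≫ u = x ≫ v) : u = v := by
  obtain ⟨hs, -⟩ := instances (A := A)
  haveI := hs
  refine Over.OverMorphism.ext ?_
  haveI : IsIntegral A.left := GeometricallyIntegral.isIntegral_of_subsingleton A.hom
  haveI : LocallyOfFiniteType (u.left ≫ B.hom) := by rw [Over.w]; infer_instance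
  refine AlgebraicGeometry.ext_of_apply_eq B.hom Set.univ isClosed_univ.isLocallyClosed dense_univ (fun x _ hx => ?_)
    ((Over.w u).trans (Over.w v).symm)
  exact by
    obtain ⟨a, rfl⟩ := AVAmple.exists_pt (A := A) hx
    exact congrArg (fun f : pt₀ ⟶ B => f.left (IsLocalRing.closedPoint k)) (h a)

/-- A surjective homomorphism has a section up to multiplication. -/
theorem exists_quasi_section (β : A ⟶ B) [IsMonHom β] [Surjective β.left] :
    ∃ (n : ℕ) (γ' : B ⟶ A) (_ : IsMonHom γ'), 0 < n ∧ γ' ≫ β = 𝟙 B ^ n := by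
  classical
  haveI : IsIntegral B.left := GeometricallyIntegral.isIntegral_of_subsingleton B.hom
  let H : Subgroup (pt₀ ⟶ A) :=
    { carrier := {b | b ≫ β = 1}
      one_mem' := MonObj.one_comp β
      mul_mem' := fun {a b} (ha : a ≫ β = 1) (hb : b ≫ β = 1) => by
        show (a * b) ≫ β = 1
        rw [MonObj.mul_comp, ha, hb, _root_.mul_one]
      inv_mem' := fun {a} (ha : a ≫ β = 1) => by
        show a⁻¹ ≫ β = 1
        rw [GrpObj.inv_comp, ha, inv_one] }
  let S : Set A.left := β.left ⁻¹' {AVAmple.pt (1 : pt₀ ⟶ B)}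
  have hS : IsClosed S := (AVAmple.isClosed_pt _).preimage β.left.continuous
  have hSH : ∀ a : pt₀ ⟶ A, AVAmple.pt a ∈ S ↔ a ∈ H := fun a =>
    ⟨fun h => AVTheta8.pt_injective (show AVAmple.pt (a ≫ β) = _ from h),
      fun (h : a ≫ β = 1) => (show AVAmple.pt (a ≫ β) = _ from congrArg AVAmple.pt h)⟩
  obtain ⟨Z, iZ, i, hi, hic, hrange⟩ := exists_redGroup H hS hSH
  obtain ⟨C, iC, hCp, hCg, j, hj, c, hjc, hcj, F, hF⟩ := AVSubLib.exists_component A Z i
  obtain ⟨W, iW, w, hWp, hWg, hw, hwc, hsurj, hfin⟩ := S11999.result k A C j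
  haveI : IsCommMonObj W := isCommMonObj_of_isProper_of_geometricallyIntegral W
  haveI : IsCommMonObj C := isCommMonObj_of_isProper_of_geometricallyIntegral C
  have hjβ : j ≫ β = 1 := hom_eq_of_pts _ _ fun y => by
    rw [← Category.assoc, MonObj.comp_one]
    refine (hSH (y ≫ j)).1 ?_
    rw [← hrange]
    exact ⟨(y ≫ c).left (IsLocalRing.closedPoint k), by
      show ((y ≫ c) ≫ i).left _ = _
      rw [Category.assoc, hcj]⟩
  let f : C ⊗ W ⟶ A := (fst C W ≫ j) * (snd C W ≫ w)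
  have hfβ : f ≫ β = snd C W ≫ w ≫ β := by
    show ((fst C W ≫ j) * (snd C W ≫ w)) ≫ β = _
    rw [MonObj.mul_comp, Category.assoc, hjβ, MonObj.comp_one, _root_.one_mul, Category.assoc]
  haveI : Surjective f.left := hsurj
  haveI : Surjective (w ≫ β).left := by
    haveI : Surjective ((snd C W).left ≫ (w ≫ β).left) := by
      rw [← Over.comp_left, ← hfβ, Over.comp_left]; infer_instance
    exact Surjective.of_comp (snd C W).left (w ≫ β).left
  haveI : IsFinite f.left := hfin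
  have hker : Set.Finite {q : pt₀ ⟶ W | q ≫ w ≫ β = 1} := by
    have hfk : Set.Finite {p : pt₀ ⟶ C ⊗ W | p ≫ f = 1} := by
      have h1 := Scheme.Hom.finite_preimage_singleton f.left (AVAmple.pt (1 : pt₀ ⟶ A))
      haveI : IsProper (C ⊗ W).hom := AVIndex.isProper_tensor
      haveI : GeometricallyIntegral (C ⊗ W).hom := H23.MaxAbelian.geometricallyIntegral_tensor C W
      refine Set.Finite.of_finite_image (f := fun p : pt₀ ⟶ C ⊗ W => p.left (IsLocalRing.closedPoint k))
        (h1.subset ?_) (fun a _ b _ hab => AVTheta8.pt_injective hab)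
      rintro _ ⟨p, hp, rfl⟩
      exact congrArg (fun g : pt₀ ⟶ A => g.left (IsLocalRing.closedPoint k)) hp
    have hcover : {q : pt₀ ⟶ W | q ≫ w ≫ β = 1} ⊆ ⋃ f₀ ∈ F, {q : pt₀ ⟶ W | ∃ y : pt₀ ⟶ C, q ≫ w = f₀ * (y ≫ j)} := by
      intro q hq
      have hp : AVAmple.pt (q ≫ w) ∈ Set.range i.left := by
        rw [hrange]; exact (hSH _).2 (show (q ≫ w) ≫ β = 1 by rw [Category.assoc]; exact hq)
      obtain ⟨z, hz⟩ := hp
      haveI : LocallyOfFiniteType Z.hom := by rw [← Over.w i]; infer_instance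
      have hzc : IsClosed ({z} : Set Z.left) := by
        have h := (AVAmple.isClosed_pt (q ≫ w)).preimage i.left.continuous
        rw [← hz] at h
        convert h using 1
        exact (Set.preimage_image_eq {z} i.left.isEmbedding.injective).symm.trans (by rw [Set.image_singleton])
      obtain ⟨x, rfl⟩ := AVSubLib.exists_pt hzc
      obtain ⟨f₀, hf₀, y, hy⟩ := hF x
      exact Set.mem_biUnion hf₀ ⟨y, (show q ≫ w = f₀ * (y ≫ j) from (AVTheta8.pt_injective hz).symm.trans hy)⟩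
    refine Set.Finite.subset (Set.Finite.biUnion F.finite_toSet fun f₀ _ => ?_) hcover
    rcases ({q : pt₀ ⟶ W | ∃ y : pt₀ ⟶ C, q ≫ w = f₀ * (y ≫ j)}).eq_empty_or_nonempty with he | ⟨q₀, y₀, h₀⟩
    · rw [he]; exact Set.finite_empty
    refine (hfk.image fun p => q₀ * (p ≫ snd C W)).subset ?_
    rintro q ⟨y, hy⟩
    refine ⟨lift (y₀ * y⁻¹) (q * q₀⁻¹), ?_, ?_⟩
    · show lift (y₀ * y⁻¹) (q * q₀⁻¹) ≫ ((fst C W ≫ j) * (snd C W ≫ w)) = 1
      rw [MonObj.comp_mul, lift_fst_assoc, lift_snd_assoc, MonObj.mul_comp, MonObj.mul_comp, GrpObj.inv_comp,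
        GrpObj.inv_comp, hy, h₀]
      rw [mul_inv]
      calc (y₀ ≫ j) * (y ≫ j)⁻¹ * (f₀ * (y ≫ j) * (f₀⁻¹ * (y₀ ≫ j)⁻¹))
          = ((y₀ ≫ j) * (y₀ ≫ j)⁻¹) * ((y ≫ j)⁻¹ * (y ≫ j)) * (f₀ * f₀⁻¹) := by ac_rfl
        _ = 1 := by simp
    · show q₀ * (lift (y₀ * y⁻¹) (q * q₀⁻¹) ≫ snd C W) = q
      rw [lift_snd, mul_comm q q₀⁻¹, mul_inv_cancel_left]
  haveI : IsFinite (w ≫ β).left := isFinite_of_finite_ker (w ≫ β) hker
  obtain ⟨b⟩ : Nonempty B.left := inferInstance
  obtain ⟨-, -, hb1, ψ, hψm, -, -, -, -, hψl⟩ := AVSubLib.exists_quasiInverse W B (w ≫ β) b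
  haveI := hψm
  exact ⟨_, ψ ≫ w, inferInstance, hb1, by rw [Category.assoc]; exact hψl⟩

variable {At Bt : Over (Spec (CommRingCat.of k))}
  [GrpObj At] [IsProper At.hom] [GeometricallyIntegral At.hom]
  [GrpObj Bt] [IsProper Bt.hom] [GeometricallyIntegral Bt.hom]
  {φA : ∀ T : Over (Spec (CommRingCat.of k)), PicF.Cl (PicF.XT A.hom T) → (T ⟶ At)}
  (hA : AbDual.IsDualAV Scheme.fppfPrecoverage A At φA) {ξA : PicF.Cl (A ⊗ At).left}
  (hξA : AbDual.IsPoincareCl A At φA ξA)
  {φB : ∀ T : Over (Spec (CommRingCat.of k)), PicF.Cl (PicF.XT B.hom T) → (T ⟶ Bt)}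
  (hB : AbDual.IsDualAV Scheme.fppfPrecoverage B Bt φB) {ξB : PicF.Cl (B ⊗ Bt).left}
  (hξB : AbDual.IsPoincareCl B Bt φB ξB)

include hA hξA in
/-- Every translation invariant class is the class of a point. -/
theorem exists_cls [IsCommMonObj At] {c : PicF.Cl A.left} (hc : PicF.IsInvertibleCl c)
    (hinv : ∀ b : pt₀ ⟶ A, pl (CubeAb.tr b) c = c) : ∃ y : pt₀ ⟶ At, cls ξA y = c := by
  obtain ⟨L, hL⟩ := AVProj.exists_isAmple (X := A)
  have hl := isLamOf_phi hA hξA hL.1
  obtain ⟨N, rfl, hN⟩ := hc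
  have hLf : (AVIndex.fixSet₀ L).Finite := by
    have hc := AVRoots.conc_of_isAmple hL
    exact AVIndex.finite_fixSet_of_concentrated hL.1 hc.1 hc.2
  obtain ⟨a, ha⟩ := exists_translate hL.1 hN hinv hLf
  refine ⟨a ≫ φA A (lam hL.1 (fst A A) (snd A A) : PicF.Cl (A ⊗ A).left), ?_⟩
  rw [hl.cls_eq, delta, div_eq_mul_inv, Units.val_mul]
  show CubeAb.F (PicF.cl L) (CubeAb.tr a) * _ = _
  rw [ha, _root_.mul_assoc, ← val_pc_id hL.1, Units.mul_inv, _root_.mul_one]

include hA hξA hB hξB in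
/-- **The transpose on points is the pullback of classes.** -/
theorem cls_transpose (f : A ⟶ B) {ft : Bt ⟶ At} (hft : AbDual.IsTranspose f φA φB ft) (y : pt₀ ⟶ Bt) :
    pl f (cls ξB y) = cls ξA (y ≫ ft) := by
  have hz : PZ B pt₀ (pl (fst B pt₀) (cls ξB y)) := by rw [pl_fst_cls]; exact pz_pl y hξB.1
  have hz' : PZ A pt₀ (pl (f ▷ pt₀) (pl (fst B pt₀) (cls ξB y))) := by
    have h := AbDualBase.pz_bc f hz
    rw [AVDual.bcMap_eq] at h
    exact h
  have hzA : PZ A pt₀ (pl (fst A pt₀) (cls ξA (y ≫ ft))) := by rw [pl_fst_cls]; exact pz_pl _ hξA.1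
  have he := hft pt₀ _ hz
  rw [AVDual.bcMap_eq, phi_cls hB hξB] at he
  have h := eq_of_phi_pt hA hz' hzA (by rw [phi_cls hA hξA]; exact he)
  have h1 := congrArg (pl (lift (𝟙 A) (toUnit A))) h
  simpa only [pl_pl, lift_fst, pl_id, whiskerRight_fst, ← Category.assoc, Category.id_comp] using h1

end Groth.Agent.AVTrace
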