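import Groth.Agent.AVTheta8.Degen
import Groth.Agent.EulerConst.Tau
import Groth.Agent.AVIndex.Powers
import Groth.Prelude.Def_EndRing

/-!
# Adjoint endomorphisms with respect to an invertible module

`Adj hL α β` says that `α^* (t_x^* L ⊗ L⁻¹) = t_{β x}^* L ⊗ L⁻¹`; it is symmetric in `α` and `β` by the symmetry of
the Mumford bundle, so no dual abelian variety is needed.
-/

noncomputable section

set_option autoImplicit false
set_option linter.style.haveILetI false
set_option linter.unusedSectionVars false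
set_option backward.isDefEq.respectTransparency false
set_option backward.isDefEq.respectTransparency.types false
set_option maxHeartbeats 1000000

universe u

open CategoryTheory CategoryTheory.Limits MonoidalCategory CartesianMonoidalCategory MonObj AlgebraicGeometry TopologicalSpace

namespace Groth.Agent.AVTrace

open Groth.Agent Groth.Agent.H23 Groth.Agent.H23.TrivBasic Groth.Agent.AVCube Groth.Agent.AVPair Groth.Agent.AVTheta8
open scoped Groth.Agent.H23.PicMul

variable {k : Type u} [Field k] [IsAlgClosed k] {A : Over (Spec (CommRingCat.of k))} [GrpObj A] [IsCommMonObj A]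
  [IsProper A.hom] [GeometricallyIntegral A.hom] {L M : A.left.Modules}

local notation "pt₀" => 𝟙_ (Over (Spec (CommRingCat.of k)))

/-- The Mumford class at a pair of points. -/
def lam (hL : PicF.IsInvertible L) {T : Over (Spec (CommRingCat.of k))} (f g : T ⟶ A) : (PicF.Cl T.left)ˣ :=
  pc hL (f * g) / (pc hL f * pc hL g)

theorem lam_comm (hL : PicF.IsInvertible L) {T : Over (Spec (CommRingCat.of k))} (f g : T ⟶ A) :
    lam hL f g = lam hL g f := by
  rw [lam, lam, mul_comm f g, mul_comm (pc hL f)]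

theorem pull_lam (hL : PicF.IsInvertible L) {T T' : Over (Spec (CommRingCat.of k))} (h : T' ⟶ T) (f g : T ⟶ A) :
    Units.map (PicMul.pullHom h.left : PicF.Cl T.left →* PicF.Cl T'.left) (lam hL f g) = lam hL (h ≫ f) (h ≫ g) := by
  simp only [lam, map_div, map_mul, pull_pc, MonObj.comp_mul]

theorem lam_id_const (hL : PicF.IsInvertible L) (x : pt₀ ⟶ A) : lam hL (𝟙 A) (toUnit A ≫ x) = delta hL x := by
  rw [lam, AVTheta8.pc_const hL, _root_.mul_one]
  rfl

theorem lam_one_left (hL : PicF.IsInvertible L) {T : Over (Spec (CommRingCat.of k))} (g : T ⟶ A) :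
    lam hL (1 : T ⟶ A) g = 1 := by
  rw [lam, _root_.one_mul, pc_one, _root_.one_mul, div_self']

theorem isInvertibleCl_lam (hL : PicF.IsInvertible L) {T : Over (Spec (CommRingCat.of k))} (f g : T ⟶ A) :
    PicF.IsInvertibleCl (lam hL f g : PicF.Cl T.left) := by
  have inv (h : T ⟶ A) : PicF.IsInvertibleCl (pc hL h : PicF.Cl T.left) :=
    PicClLib.isInvertibleCl_pullCl h.left ⟨L, rfl, hL⟩
  simp only [lam, div_eq_mul_inv, mul_inv, Units.val_mul]
  repeat' apply PicMul.isInvertibleCl_mul
  all_goals first | exact inv _ | exact isInvertibleCl_units (inv _)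

/-- Two classes on the square agreeing on all slices and on the axis agree. -/
theorem eq_of_slices {u v : (PicF.Cl (A ⊗ A).left)ˣ} (hu : PicF.IsInvertibleCl (u : PicF.Cl (A ⊗ A).left))
    (hv : PicF.IsInvertibleCl (v : PicF.Cl (A ⊗ A).left))
    (hs : ∀ x : pt₀ ⟶ A, Units.map (PicMul.pullHom (lift (𝟙 A) (toUnit A ≫ x)).left :
        PicF.Cl (A ⊗ A).left →* PicF.Cl A.left) u =
      Units.map (PicMul.pullHom (lift (𝟙 A) (toUnit A ≫ x)).left : PicF.Cl (A ⊗ A).left →* PicF.Cl A.left) v)
    (ha : Units.map (PicMul.pullHom (lift (1 : A ⟶ A) (𝟙 A)).left : PicF.Cl (A ⊗ A).left →* PicF.Cl A.left) u =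
      Units.map (PicMul.pullHom (lift (1 : A ⟶ A) (𝟙 A)).left : PicF.Cl (A ⊗ A).left →* PicF.Cl A.left) v) :
    u = v := by
  haveI : IsIntegral A.left := GeometricallyIntegral.isIntegral_of_subsingleton A.hom
  obtain ⟨W, hWcl, hW⟩ : PicF.IsInvertibleCl ((u / v : (PicF.Cl (A ⊗ A).left)ˣ) : PicF.Cl (A ⊗ A).left) := by
    simp only [div_eq_mul_inv, Units.val_mul]
    exact PicMul.isInvertibleCl_mul hu (isInvertibleCl_units hv)
  refine div_eq_one.1 (Units.ext (hWcl.symm.trans ((CubeAb.cl_eq_one_iff _).2 ?_)))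
  refine AVSeesaw.triv_of_slices A A _ hW (fun z hz => AVSeesaw.triv_fibre_of_points A A _ (fun x => ?_) z hz) 1 ?_
  · refine (CubeAb.cl_eq_one_iff _).1 ?_
    show PicMul.pullHom _ (PicF.cl W) = 1
    rw [hWcl, F_units _ (u / v), map_div, hs x, div_self']
    rfl
  · refine (CubeAb.cl_eq_one_iff _).1 ?_
    show PicMul.pullHom _ (PicF.cl W) = 1
    rw [hWcl, F_units _ (u / v), map_div, ha, div_self']
    rfl

/-- The transposition of the factors. -/
abbrev swapA (A : Over (Spec (CommRingCat.of k))) : A ⊗ A ⟶ A ⊗ A := lift (snd A A) (fst A A)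

/-- `M` corresponds to `β`: `t_x^* M ⊗ M⁻¹ = t_{β x}^* L ⊗ L⁻¹`. -/
def Corr (hL : PicF.IsInvertible L) (hM : PicF.IsInvertible M) (β : EndAV.End A) : Prop :=
  ∀ x : pt₀ ⟶ A, delta hM x = delta hL (x ≫ β.toHom)

/-- `α` and `β` are adjoint. -/
def Adj (hL : PicF.IsInvertible L) (α β : EndAV.End A) : Prop :=
  ∀ x : pt₀ ⟶ A, Units.map (PicMul.pullHom α.toHom.left : PicF.Cl A.left →* PicF.Cl A.left) (delta hL x) =
    delta hL (x ≫ β.toHom)

theorem comp_const (x : pt₀ ⟶ A) (f : A ⟶ A) : f ≫ toUnit A ≫ x = toUnit A ≫ x := by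
  rw [← Category.assoc, toUnit_unique (f ≫ toUnit A) (toUnit A)]

/-- **A corresponding module makes the endomorphism self-adjoint.** -/
theorem Corr.adj {hL : PicF.IsInvertible L} {hM : PicF.IsInvertible M} {β : EndAV.End A} (h : Corr hL hM β) :
    Adj hL β β := by
  have hg : lam hM (fst A A) (snd A A) = lam hL (fst A A) (snd A A ≫ β.toHom) := by
    refine eq_of_slices (isInvertibleCl_lam hM _ _) (isInvertibleCl_lam hL _ _) (fun x => ?_) ?_
    · rw [pull_lam, pull_lam, lift_fst, lift_snd, lift_snd_assoc, Category.assoc, lam_id_const, lam_id_const, h x]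
    · rw [pull_lam, pull_lam, lift_fst, lam_one_left, lam_one_left]
  intro x
  have h2 := congrArg (Units.map (PicMul.pullHom (swapA A).left : PicF.Cl (A ⊗ A).left →* PicF.Cl (A ⊗ A).left)) hg
  rw [pull_lam, pull_lam, lift_fst, lift_snd, lift_snd_assoc, lam_comm hM] at h2
  have h3 := congrArg (Units.map (PicMul.pullHom (lift (𝟙 A) (toUnit A ≫ x)).left :
    PicF.Cl (A ⊗ A).left →* PicF.Cl A.left)) h2
  rw [pull_lam, pull_lam, lift_fst, lift_snd, lift_fst_assoc, Category.id_comp, lam_id_const] at h3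
  rw [← h x, h3, lam_comm hL, ← lam_id_const hL x, pull_lam, Category.comp_id, comp_const]

/-- **Adjointness is symmetric.** -/
theorem Adj.symm {hL : PicF.IsInvertible L} {α β : EndAV.End A} (h : Adj hL α β) : Adj hL β α := by
  have hg : lam hL (fst A A ≫ α.toHom) (snd A A) = lam hL (fst A A) (snd A A ≫ β.toHom) := by
    refine eq_of_slices (isInvertibleCl_lam hL _ _) (isInvertibleCl_lam hL _ _) (fun x => ?_) ?_
    · rw [pull_lam, pull_lam, lift_fst, lift_fst_assoc, lift_snd, lift_snd_assoc, Category.id_comp, Category.assoc,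
        lam_id_const, ← h x, ← lam_id_const hL x, pull_lam, Category.comp_id, comp_const]
    · rw [pull_lam, pull_lam, lift_fst, lift_fst_assoc, MonObj.one_comp, lam_one_left, lam_one_left]
  intro x
  have h2 := congrArg (Units.map (PicMul.pullHom (swapA A).left : PicF.Cl (A ⊗ A).left →* PicF.Cl (A ⊗ A).left)) hg
  rw [pull_lam, pull_lam, lift_fst, lift_fst_assoc, lift_snd, lift_snd_assoc] at h2
  have h3 := congrArg (Units.map (PicMul.pullHom (lift (𝟙 A) (toUnit A ≫ x)).left :
    PicF.Cl (A ⊗ A).left →* PicF.Cl A.left)) h2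
  rw [pull_lam, pull_lam, lift_fst, lift_fst_assoc, lift_snd, lift_snd_assoc, Category.id_comp, Category.assoc,
    lam_comm hL, lam_id_const] at h3
  rw [h3, lam_comm hL, ← lam_id_const hL x, pull_lam, Category.comp_id, comp_const]

/-- Translation differences are additive classes. -/
theorem isAdditive_delta (hL : PicF.IsInvertible L) (x : pt₀ ⟶ A) :
    CubeAb.IsAdditive ((delta hL x : (PicF.Cl A.left)ˣ) : PicF.Cl A.left) := by
  obtain ⟨N, hN, hNa⟩ := algEquivZero_delta hL x
  have hi : PicF.IsInvertibleCl ((delta hL x : (PicF.Cl A.left)ˣ) : PicF.Cl A.left) := by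
    rw [← lam_id_const hL x]
    exact isInvertibleCl_lam hL _ _
  refine CubeAb.isAdditive_of_invariant hi fun b => ?_
  obtain ⟨N', hN', hN'i⟩ := hi
  rw [← hN]
  exact invariant_of_algEquivZero
    (PicMul.isInvertible_of_iso (PicMul.cl_eq_iff.1 (hN'.trans hN.symm)).some hN'i) hNa b

theorem pull_delta_mul (hL : PicF.IsInvertible L) (x : pt₀ ⟶ A) (f g : A ⟶ A) :
    Units.map (PicMul.pullHom (f * g).left : PicF.Cl A.left →* PicF.Cl A.left) (delta hL x) =
      Units.map (PicMul.pullHom f.left : PicF.Cl A.left →* PicF.Cl A.left) (delta hL x) *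
        Units.map (PicMul.pullHom g.left : PicF.Cl A.left →* PicF.Cl A.left) (delta hL x) :=
  Units.ext ((isAdditive_delta hL x).apply f g)

theorem pull_delta_one (hL : PicF.IsInvertible L) (x : pt₀ ⟶ A) :
    Units.map (PicMul.pullHom (1 : A ⟶ A).left : PicF.Cl A.left →* PicF.Cl A.left) (delta hL x) = 1 := by
  have h := pull_delta_mul hL x 1 1
  rwa [_root_.one_mul, left_eq_mul] at h

theorem delta_pt_one (hL : PicF.IsInvertible L) : delta hL (1 : pt₀ ⟶ A) = 1 := (stab hL).one_mem

namespace Adj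

variable {hL : PicF.IsInvertible L} {α β α' β' : EndAV.End A}

theorem zero : Adj hL (0 : EndAV.End A) 0 := fun x => by
  rw [EndAV.End.toHom_zero, pull_delta_one, MonObj.comp_one, delta_pt_one]

theorem one : Adj hL (1 : EndAV.End A) 1 := fun x => by
  rw [EndAV.End.toHom_one, Category.comp_id]
  exact Units.ext (PicClLib.pullCl_id _)

theorem add (h : Adj hL α β) (h' : Adj hL α' β') : Adj hL (α + α') (β + β') := fun x => by
  rw [EndAV.End.toHom_add, EndAV.End.toHom_add, pull_delta_mul, h x, h' x, MonObj.comp_mul, delta_mul]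

theorem neg (h : Adj hL α β) : Adj hL (-α) (-β) := fun x => by
  have h1 : Units.map (PicMul.pullHom (-α).toHom.left : PicF.Cl A.left →* PicF.Cl A.left) (delta hL x) *
      delta hL (x ≫ β.toHom) = 1 := by
    rw [← h x, ← pull_delta_mul, EndAV.End.toHom_neg, inv_mul_cancel, pull_delta_one]
  have h2 : delta hL (x ≫ (-β).toHom) * delta hL (x ≫ β.toHom) = 1 := by
    rw [← delta_mul, EndAV.End.toHom_neg, GrpObj.comp_inv, inv_mul_cancel, delta_pt_one]
  exact mul_right_cancel (h1.trans h2.symm)

theorem mul (h : Adj hL α β) (h' : Adj hL α' β') : Adj hL (α * α') (β' * β) := fun x => by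
  rw [EndAV.End.toHom_mul, EndAV.End.toHom_mul, ← Category.assoc, ← h' (x ≫ β.toHom), ← h x]
  exact Units.ext (PicClLib.pullCl_comp _ _ _).symm

theorem natCast : ∀ n : ℕ, Adj hL (n : EndAV.End A) n
  | 0 => by simpa using zero
  | n + 1 => by simpa using (natCast n).add one

theorem intCast : ∀ n : ℤ, Adj hL (n : EndAV.End A) n
  | .ofNat n => by simpa using natCast n
  | .negSucc n => by
    rw [Int.cast_negSucc]
    exact (natCast (n + 1)).neg

theorem pow (h : Adj hL α β) : ∀ n : ℕ, Adj hL (α ^ n) (β ^ n)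
  | 0 => by simpa using one
  | n + 1 => by
    rw [pow_succ α, pow_succ' β]
    exact (h.pow n).mul h

/-- Polynomials in a self-adjoint endomorphism are self-adjoint. -/
theorem aeval (h : Adj hL α α) (G : Polynomial ℤ) :
    Adj hL (Polynomial.aeval α G) (Polynomial.aeval α G) := by
  induction G using Polynomial.induction_on' with
  | add p q hp hq => rw [map_add]; exact hp.add hq
  | monomial n a =>
    rw [Polynomial.aeval_monomial]
    have e : (algebraMap ℤ (EndAV.End A)) a = (a : EndAV.End A) := eq_intCast _ a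
    rw [e]
    have h1 := (intCast (hL := hL) a).mul (h.pow n)
    rwa [← (Int.cast_commute a (α ^ n)).eq] at h1

end Adj

/-- The pullback of `L` along `α` corresponds to `β α`. -/
theorem corr_pullback {hL : PicF.IsInvertible L} {α β : EndAV.End A} (h : Adj hL α β) :
    Corr hL (PicClLib.isInvertible_pullback α.toHom.left hL) (β * α) := fun x => by
  rw [delta_pullback α.toHom hL x, h, EndAV.End.toHom_mul, Category.assoc]

/-- The pullback of a corresponding module. -/
theorem corr_pullback_of_corr {hL : PicF.IsInvertible L} {hM : PicF.IsInvertible M} {α β θ : EndAV.End A}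
    (hc : Corr hL hM θ) (h : Adj hL α β) :
    Corr hL (PicClLib.isInvertible_pullback α.toHom.left hM) (β * θ * α) := fun x => by
  rw [delta_pullback α.toHom hM x, hc, h, EndAV.End.toHom_mul, EndAV.End.toHom_mul, Category.assoc, Category.assoc]

/-- **The Euler characteristic only depends on the translation differences.** -/
theorem euler_eq_of_delta (hL : PicF.IsInvertible L) (hM : PicF.IsInvertible M)
    (h : ∀ x : pt₀ ⟶ A, delta hL x = delta hM x) :
    @Curv2.euler k _ A.left ⟨A.hom⟩ L = @Curv2.euler k _ A.left ⟨A.hom⟩ M := by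
  letI : A.left.Over (Spec (CommRingCat.of k)) := ⟨A.hom⟩
  haveI : IsProper (A.left ↘ Spec (CommRingCat.of k)) := ‹IsProper A.hom›
  haveI : IsIntegral A.left := GeometricallyIntegral.isIntegral_of_subsingleton A.hom
  haveI : IsLocallyNoetherian A.left := LocallyOfFiniteType.isLocallyNoetherian A.hom
  obtain ⟨g, hg⟩ : ∃ g : ℕ, topologicalKrullDim A.left = g :=
    ⟨_, VarDim.topologicalKrullDim_eq_deg_genericPoint A.hom⟩
  obtain ⟨D, hD, ⟨e⟩⟩ := H23.PicInv.exists_inverse hM
  have hMD : PicF.cl M * PicF.cl D = 1 := by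
    rw [← PicMul.cl_tensor, PicMul.one_def]; exact PicMul.cl_eq_iff.2 ⟨e⟩
  let N := CohB1.tensorMod L D
  have hN : PicF.IsInvertible N := PicMul.isInvertible_tensor hL hD
  have hcl : PicF.cl L = PicF.cl M * PicF.cl N := by
    rw [PicMul.cl_tensor, mul_left_comm, hMD, _root_.mul_one]
  have hd : ∀ x : pt₀ ⟶ A, delta hN x = 1 := fun x => by
    have h1 := AVIndex.delta_of_mul hM hN hL hcl x
    rwa [h x, left_eq_mul] at h1
  have hinv : ∀ b : pt₀ ⟶ A, CubeAb.F (PicF.cl N) (CubeAb.tr b) = PicF.cl N := fun b =>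
    (delta_eq_one hN b).1 (hd b)
  obtain ⟨u⟩ : Nonempty (CohB1.tensorPow N 1 ≅ N) := PicMul.cl_eq_iff.1 (by rw [PicMul.cl_tensorPow, pow_one])
  have hτ : Pic13.IsTauEquivZero k A.left N :=
    ⟨1, one_pos, AVDual.algEquivZero_of_iso u.symm (algEquivZero_of_invariant hN hinv)⟩
  have hfin := EulerConst.eulerCharLE_tensor_pow_of_tau k g hg.le hN hτ (AmpleVan.isCoh_invertible hM) 1
  rw [EulerConst.euler_eq_eulerCharLE k g hg.le (AmpleVan.isCoh_invertible hL).1,
    EulerConst.euler_eq_eulerCharLE k g hg.le (AmpleVan.isCoh_invertible hM).1, ← hfin]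
  exact EulerConst.eulerCharLE_congr k (by rw [hcl, PicMul.cl_tensor M, PicMul.cl_tensorPow, pow_one]) g

end Groth.Agent.AVTrace
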