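import Groth.Agent.AVTrace.Adj
import Groth.Agent.AVRoots.Mult
import Groth.Agent.AVCharpoly.Norm
import Groth.Agent.LerayEuler.Pullback

/-!
# The degree of a symmetric endomorphism

If `M` corresponds to `β` (that is `φ_M = φ_L β`), then `deg (β + j) χ(L)² = χ(M ⊗ L^j)²`.
-/

noncomputable section

set_option autoImplicit false
set_option linter.style.haveILetI false
set_option linter.unusedSectionVars false
set_option backward.isDefEq.respectTransparency false
set_option backward.isDefEq.respectTransparency.types false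
set_option maxHeartbeats 1000000

universe u

open CategoryTheory CategoryTheory.Limits MonoidalCategory CartesianMonoidalCategory MonObj AlgebraicGeometry TopologicalSpace

namespace Groth.Agent.AVTrace

open Groth.Agent Groth.Agent.H23 Groth.Agent.H23.TrivBasic Groth.Agent.AVCube Groth.Agent.AVPair Groth.Agent.AVTheta8
open Groth.Agent.VolLib Groth.Agent.AVCharpoly
open scoped Groth.Agent.H23.PicMul

variable {k : Type u} [Field k] [IsAlgClosed k] {A : Over (Spec (CommRingCat.of k))} [GrpObj A] [IsCommMonObj A]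
  [IsProper A.hom] [GeometricallyIntegral A.hom] {L M : A.left.Modules}

local notation "pt₀" => 𝟙_ (Over (Spec (CommRingCat.of k)))
/-- The Euler characteristic. -/
abbrev chi (N : A.left.Modules) : ℤ := @Curv2.euler k _ A.left ⟨A.hom⟩ N

/-- The translation difference as a homomorphism in the class. -/
def Dl (x : pt₀ ⟶ A) : (PicF.Cl A.left)ˣ →* (PicF.Cl A.left)ˣ :=
  Units.map (PicMul.pullHom (CubeAb.tr x).left : PicF.Cl A.left →* PicF.Cl A.left) / MonoidHom.id _

theorem delta_eq_Dl (hL : PicF.IsInvertible L) (x : pt₀ ⟶ A) : delta hL x = Dl x (ucl hL) := by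
  have h1 : pc hL (CubeAb.tr x) =
      Units.map (PicMul.pullHom (CubeAb.tr x).left : PicF.Cl A.left →* PicF.Cl A.left) (ucl hL) :=
    Units.ext rfl
  have h2 : pc hL (𝟙 A) = ucl hL := Units.ext (by rw [val_ucl, val_pc_id])
  rw [delta, h1, h2]
  rfl

/-- A class killed at infinitely many points, from a homomorphism that is not finite. -/
theorem euler_pullback_eq_zero {g : ℕ} (hg : topologicalKrullDim A.left = g) (hL : PicF.IsInvertible L)
    (ψ : EndAV.End A) (h : ¬ IsFinite ψ.toHom.left) : chi ((Scheme.Modules.pullback ψ.toHom.left).obj L) = 0 := by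
  refine euler_eq_zero_of_degenerate (PicClLib.isInvertible_pullback _ hL) fun hfin => h ?_
  refine (AVIndex.isogeny_of_finite_ker ψ.toHom (hfin.subset fun a (ha : a ≫ ψ.toHom = 1) => ?_) le_rfl).1
  refine (mem_stab (PicClLib.isInvertible_pullback ψ.toHom.left hL) a).1 ?_
  show delta (PicClLib.isInvertible_pullback ψ.toHom.left hL) a = 1
  rw [delta_pullback ψ.toHom hL a, ha, delta_pt_one,
    map_one]

/-- `χ(ψ^* L) = deg ψ · χ(L)`. -/
theorem euler_pullback_degQ {g : ℕ} (hg : topologicalKrullDim A.left = g) (hL : PicF.IsInvertible L)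
    (ψ : EndAV.End A) : (chi ((Scheme.Modules.pullback ψ.toHom.left).obj L) : ℚ) = degQ ψ.toHom * (chi L : ℚ) := by
  by_cases h : IsFinite ψ.toHom.left
  · haveI := h
    haveI : IsIntegral A.left := GeometricallyIntegral.isIntegral_of_subsingleton A.hom
    haveI : Surjective ψ.toHom.left :=
      H23.Isogeny.surjective_of_isFinite A.hom A.hom ψ.toHom.left (Over.w ψ.toHom) rfl
    haveI : IsLocallyNoetherian A.left := LocallyOfFiniteType.isLocallyNoetherian A.hom
    haveI : Flat ψ.toHom.left := (AVDegPoly.isFinite_of_surjective hg hg ψ.toHom).2.1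
    let e := η[A].left (IsLocalRing.closedPoint k)
    have hd : ∀ y : A.left, ψ.toHom.left.finrank y = ψ.toHom.left.finrank e := fun y => by
      have h1 := (finrank_eq_degQ ψ.toHom h y).trans (finrank_eq_degQ ψ.toHom h e).symm
      exact_mod_cast h1
    unfold chi
    rw [AVEuler.euler_pullback ψ.toHom _ hd L (AmpleVan.isCoh_invertible hL), degQ_of_finite _ h]
    push_cast
    rfl
  · rw [euler_pullback_eq_zero hg hL ψ h, degQ_of_not _ h, zero_mul, Int.cast_zero]

/-- A square root of `1 + X` to any order. -/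
theorem exists_sqrt : ∀ n : ℕ, ∃ e : Polynomial ℚ, e.natDegree ≤ n ∧ e.coeff 0 = 1 ∧
    ∀ j ≤ n, (e * e).coeff j = (1 + Polynomial.X : Polynomial ℚ).coeff j
  | 0 => ⟨1, by simp, by simp, fun j hj => by obtain rfl := Nat.le_zero.1 hj; simp⟩
  | n + 1 => by
    obtain ⟨e, hd, h0, hj⟩ := exists_sqrt n
    let c : ℚ := ((1 + Polynomial.X : Polynomial ℚ).coeff (n + 1) - (e * e).coeff (n + 1)) / 2
    refine ⟨e + Polynomial.C c * Polynomial.X ^ (n + 1), (Polynomial.natDegree_add_le _ _).trans
      (max_le (hd.trans n.le_succ) (Polynomial.natDegree_C_mul_X_pow_le _ _)), ?_, fun j hjn => ?_⟩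
    · simp [h0]
    rw [show (e + Polynomial.C c * Polynomial.X ^ (n + 1)) * (e + Polynomial.C c * Polynomial.X ^ (n + 1)) =
      e * e + (Polynomial.C (2 * c) * e + Polynomial.C (c * c) * Polynomial.X ^ (n + 1)) * Polynomial.X ^ (n + 1) by
        rw [map_mul, map_mul, show Polynomial.C (2 : ℚ) = 2 from rfl]; ring,
      Polynomial.coeff_add, Polynomial.coeff_mul_X_pow']
    rcases hjn.lt_or_eq with h | rfl
    · rw [if_neg (by omega), add_zero, hj j (by omega)]
    · rw [if_pos le_rfl, Nat.sub_self, Polynomial.coeff_add, Polynomial.coeff_C_mul, h0, Polynomial.coeff_C_mul,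
        Polynomial.coeff_X_pow, if_neg (by omega)]
      simp only [c]
      ring

theorem dvd_aeval_sub {σ : Type} {S : Type*} [CommRing S] [Algebra ℚ S] (p : S) {f f' : σ → S}
    (h : ∀ i, p ∣ f i - f' i) (D : MvPolynomial σ ℚ) : p ∣ MvPolynomial.aeval f D - MvPolynomial.aeval f' D := by
  induction D using MvPolynomial.induction_on with
  | C a => simp
  | add a b ha hb =>
    rw [map_add, map_add, add_sub_add_comm]
    exact dvd_add ha hb
  | mul_X a i ha =>
    rw [map_mul, map_mul, MvPolynomial.aeval_X, MvPolynomial.aeval_X,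
      show MvPolynomial.aeval f a * f i - MvPolynomial.aeval f' a * f' i =
        (MvPolynomial.aeval f a - MvPolynomial.aeval f' a) * f i + MvPolynomial.aeval f' a * (f i - f' i) by ring]
    exact dvd_add (dvd_mul_of_dvd_left ha _) (dvd_mul_of_dvd_right (h i) _)

theorem coeff_pol {R : Type*} [CommRing R] {n : ℕ} (c : Fin (n + 1) → R) (j : ℕ) :
    (pol c).coeff j = if h : j < n + 1 then c ⟨j, h⟩ else 0 := by
  rw [pol, Polynomial.finsetSum_coeff]
  simp only [Polynomial.coeff_C_mul, Polynomial.coeff_X_pow, mul_ite, _root_.mul_one, MulZeroClass.mul_zero]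
  split_ifs with h
  · rw [Finset.sum_eq_single ⟨j, h⟩ (fun b _ hb => if_neg fun hbj => hb (Fin.ext hbj.symm))
      (fun h' => absurd (Finset.mem_univ _) h'), if_pos rfl]
  · exact Finset.sum_eq_zero fun b _ => if_neg fun (hbj : j = b) => h (hbj ▸ b.isLt)

/-- **`deg (β + j) χ(L)² = χ(M ⊗ L^j)²`** when `φ_M = φ_L β`. -/
theorem degQ_add_sq {g : ℕ} (hg : topologicalKrullDim A.left = g) (hL : CohB1.IsAmple L)
    (hM : PicF.IsInvertible M) {β : EndAV.End A} (h : Corr hL.1 hM β) {Φ : Polynomial ℚ}
    (hΦ : ∀ n : ℕ, Φ.eval (n : ℚ) = (chi (CohB1.tensorMod M (CohB1.tensorPow L n)) : ℚ)) (j : ℤ) :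
    degQ (β + (j : EndAV.End A)).toHom * (chi L : ℚ) ^ 2 = Φ.eval (j : ℚ) ^ 2 := by
  letI : A.left.Over (Spec (CommRingCat.of k)) := ⟨A.hom⟩
  haveI : IsProper (A.left ↘ Spec (CommRingCat.of k)) := ‹IsProper A.hom›
  haveI := CurveCohLib.isNoetherian_of_proper (k := k) (X := A.left)
  classical
  let n := 2 * g + 1
  let m := 2 * n
  obtain ⟨N, hN, hNv⟩ := exists_norm hg β
  -- the classes corresponding to the powers
  let Ls : Fin (m + 1) → A.left.Modules := fun i =>
    if Even (i : ℕ) then (Scheme.Modules.pullback (β ^ ((i : ℕ) / 2)).toHom.left).obj L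
    else (Scheme.Modules.pullback (β ^ ((i : ℕ) / 2)).toHom.left).obj M
  have hLs : ∀ i, PicF.IsInvertible (Ls i) := fun i => by
    simp only [Ls]
    split_ifs
    · exact PicClLib.isInvertible_pullback _ hL.1
    · exact PicClLib.isInvertible_pullback _ hM
  choose Ds hDs hLD' using fun i => H23.PicInv.exists_inverse (hLs i)
  have hLD : ∀ i, PicF.cl (Ls i) * PicF.cl (Ds i) = 1 := fun i => by
    rw [← PicMul.cl_tensor, PicMul.one_def]; exact PicMul.cl_eq_iff.2 (hLD' i)
  have hLsC : ∀ i (x : pt₀ ⟶ A), Dl x (ucl (hLs i)) = delta hL.1 (x ≫ (β ^ (i : ℕ)).toHom) := fun i x => by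
    have hpow := h.adj.pow ((i : ℕ) / 2)
    rcases Nat.even_or_odd (i : ℕ) with he | ho
    · have hi : (i : ℕ) / 2 + (i : ℕ) / 2 = i := by obtain ⟨r, hr⟩ := he; omega
      rw [show ucl (hLs i) = ucl (PicClLib.isInvertible_pullback (β ^ ((i : ℕ) / 2)).toHom.left hL.1) from
        Units.ext (by simp only [val_ucl, Ls, if_pos he]), ← delta_eq_Dl, corr_pullback hpow x, ← pow_add, hi]
    · have hi : (i : ℕ) / 2 + 1 + (i : ℕ) / 2 = i := by obtain ⟨r, hr⟩ := ho; omega
      rw [show ucl (hLs i) = ucl (PicClLib.isInvertible_pullback (β ^ ((i : ℕ) / 2)).toHom.left hM) from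
        Units.ext (by simp only [val_ucl, Ls, if_neg (Nat.not_even_iff_odd.2 ho)]), ← delta_eq_Dl,
        corr_pullback_of_corr h hpow x, ← pow_succ, ← pow_add, hi]
  -- their products
  obtain ⟨Q, hQd, hQ⟩ := AVDegPoly.exists_poly_int k hg.le Ls Ds hLs hDs hLD
  let U : (Fin (m + 1) → ℤ) → (PicF.Cl A.left)ˣ := fun c => ∏ i, ucl (hLs i) ^ c i
  have hUe : ∀ c, ∃ (W : A.left.Modules) (hW : PicF.IsInvertible W), ucl hW = U c ∧
      (chi W : ℚ) = MvPolynomial.eval (fun i => (c i : ℚ)) Q := fun c => by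
    let u : Fin (m + 1) → ℕ := fun i => (c i).toNat
    let w : Fin (m + 1) → ℕ := fun i => (-(c i)).toNat
    refine ⟨Curv2.tensorPows (Coh.structureModule A.left) _ (Fin.append Ls Ds) (Fin.append u w),
      LerayEuler.isInvertible_tensorPows _ (Fin.addCases (fun i => by rw [Fin.append_left]; exact hLs i)
        (fun i => by rw [Fin.append_right]; exact hDs i)) _, Units.ext ?_, ?_⟩
    · rw [val_ucl, AVDegPoly.cl_tensorPows, Fin.prod_univ_add, show PicF.cl (Coh.structureModule A.left) = 1 from rfl,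
        _root_.one_mul]
      simp only [Fin.append_left, Fin.append_right, U, u, w]
      rw [← Finset.prod_mul_distrib, Units.coe_prod]
      refine Finset.prod_congr rfl fun i _ => ?_
      have hd : PicF.cl (Ds i) = (((ucl (hLs i))⁻¹ : (PicF.Cl A.left)ˣ) : PicF.Cl A.left) :=
        (Units.inv_eq_of_mul_eq_one_right (by rw [val_ucl]; exact hLD i)).symm
      rw [hd, ← val_ucl (hLs i), ← Units.val_pow_eq_pow_val, ← Units.val_pow_eq_pow_val, ← Units.val_mul]
      congr 1
      rw [← zpow_natCast, ← zpow_natCast, inv_zpow', ← zpow_add]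
      congr 1
      omega
    · refine (hQ u w).trans ?_
      congr 2
      funext i
      simp only [u, w]
      exact_mod_cast Int.toNat_sub_toNat_neg (c i)
  have hDU : ∀ c (x : pt₀ ⟶ A), Dl x (U c) = delta hL.1 (x ≫ (∑ i, c i • β ^ (i : ℕ)).toHom) := fun c x => by
    let j : EndAV.End A →+ Additive (PicF.Cl A.left)ˣ :=
      { toFun := fun ψ => Additive.ofMul (delta hL.1 (x ≫ ψ.toHom))
        map_zero' := by rw [EndAV.End.toHom_zero, MonObj.comp_one, delta_pt_one]; rfl
        map_add' := fun ψ ψ' => by rw [EndAV.End.toHom_add, MonObj.comp_mul, delta_mul]; rfl }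
    have e := congrArg Additive.toMul (map_sum j (fun i => c i • β ^ (i : ℕ)) Finset.univ)
    simp only [map_zsmul, toMul_sum, toMul_zsmul] at e
    refine Eq.trans ?_ e.symm
    rw [map_prod]
    refine Finset.prod_congr rfl fun i _ => ?_
    rw [map_zpow, hLsC]
    rfl
  -- squares
  let D : MvPolynomial (Fin (m + 1)) ℚ := Q ^ 2 - MvPolynomial.C ((chi L : ℚ) ^ 2) * N m
  let sqv : Fin (m + 1) → MvPolynomial (Fin (n + 1)) ℚ := fun i =>
    (pol (fun l : Fin (n + 1) => MvPolynomial.X l) * pol (fun l : Fin (n + 1) => MvPolynomial.X l)).coeff i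
  have hkey : MvPolynomial.bind₁ sqv D = 0 := by
    refine ext_int fun a => ?_
    let H : Polynomial ℤ := pol a
    have hH : H.natDegree ≤ n := pol_natDegree_le a
    have hHH : (H * H).natDegree ≤ m := Polynomial.natDegree_mul_le.trans (by omega)
    let c : Fin (m + 1) → ℤ := fun i => (H * H).coeff i
    have hc : ∀ i, MvPolynomial.eval (fun l => (a l : ℚ)) (sqv i) = (c i : ℚ) := fun i => by
      have e := congrArg (fun p : Polynomial ℚ => p.coeff i)
        (show (pol (fun l : Fin (n + 1) => MvPolynomial.X l) * pol (fun l : Fin (n + 1) => MvPolynomial.X l)).map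
            (MvPolynomial.eval fun l => (a l : ℚ)) = (H * H).map (Int.castRingHom ℚ) by
          rw [Polynomial.map_mul, Polynomial.map_mul, pol_map, pol_map]; simp)
      simpa only [Polynomial.coeff_map, eq_intCast] using e
    rw [map_zero, MvPolynomial.bind₁, Snapper.eval_aeval]
    simp only [hc, D, map_sub, map_mul, map_pow, MvPolynomial.eval_C]
    obtain ⟨W, hW, hWu, hWe⟩ := hUe c
    have hsum : (∑ i, c i • β ^ (i : ℕ)) = Polynomial.aeval β (H * H) := by
      simp only [c]
      rw [Fin.sum_univ_eq_sum_range (fun i => (H * H).coeff i • β ^ i),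
        Polynomial.aeval_eq_sum_range' (Nat.lt_succ_of_le hHH)]
    let ψ := Polynomial.aeval β H
    have hψ : Corr hL.1 (PicClLib.isInvertible_pullback ψ.toHom.left hL.1) (ψ * ψ) := corr_pullback (h.adj.aeval H)
    have he : chi W = chi ((Scheme.Modules.pullback ψ.toHom.left).obj L) :=
      euler_eq_of_delta hW (PicClLib.isInvertible_pullback ψ.toHom.left hL.1) fun x => by
        rw [hψ x, delta_eq_Dl, hWu, hDU, hsum, map_mul]
    rw [← hNv m (H * H) hHH, map_mul, EndAV.End.toHom_mul, degQ_comp, ← hWe, he, euler_pullback_degQ hg hL.1 ψ]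
    ring
  -- the line
  have hDd : D.totalDegree ≤ 2 * g := (MvPolynomial.totalDegree_sub _ _).trans (max_le
    ((MvPolynomial.totalDegree_pow _ _).trans (by omega))
    ((MvPolynomial.totalDegree_mul _ _).trans (by
      rw [MvPolynomial.totalDegree_C, Nat.zero_add]; exact (hN m).totalDegree_le)))
  obtain ⟨e, hed, he0, hej⟩ := exists_sqrt n
  have hline : ∀ t : ℚ, t ≠ 0 → ∀ c₁ : ℚ, MvPolynomial.eval
      (fun i : Fin (m + 1) => if (i : ℕ) = 0 then t ^ 2 else if (i : ℕ) = 1 then c₁ else 0) D = 0 := by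
    intro t ht c₁
    let f : Fin (m + 1) → Polynomial ℚ := fun i =>
      if (i : ℕ) = 0 then Polynomial.C (t ^ 2) else if (i : ℕ) = 1 then Polynomial.C (t ^ 2) * Polynomial.X else 0
    let f' : Fin (m + 1) → Polynomial ℚ := fun i => Polynomial.C (t ^ 2 * (e * e).coeff i) * Polynomial.X ^ (i : ℕ)
    have hf' : MvPolynomial.aeval f' D = 0 := by
      have h1 := congrArg (MvPolynomial.aeval (fun l : Fin (n + 1) =>
        Polynomial.C (t * e.coeff l) * Polynomial.X ^ (l : ℕ) : Fin (n + 1) → Polynomial ℚ)) hkey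
      rw [map_zero, MvPolynomial.aeval_bind₁] at h1
      refine Eq.trans ?_ h1
      congr 2
      funext i
      show f' i = MvPolynomial.aeval _ (sqv i)
      simp only [f', sqv]
      rw [show ∀ (p : Polynomial (MvPolynomial (Fin (n + 1)) ℚ)) (q : Fin (n + 1) → Polynomial ℚ),
        MvPolynomial.aeval q (p.coeff i) = (p.map (MvPolynomial.aeval q).toRingHom).coeff i from fun p q => by
          rw [Polynomial.coeff_map]; rfl, Polynomial.map_mul, pol_map, Polynomial.coeff_mul, Polynomial.coeff_mul,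
        Finset.mul_sum, map_sum, Finset.sum_mul]
      refine Finset.sum_congr rfl fun ab hab => ?_
      have hc : ∀ p : ℕ, (pol fun l : Fin (n + 1) => (MvPolynomial.aeval (fun l : Fin (n + 1) =>
          Polynomial.C (t * e.coeff l) * Polynomial.X ^ (l : ℕ) : Fin (n + 1) → Polynomial ℚ) :
          MvPolynomial (Fin (n + 1)) ℚ →ₐ[ℚ] Polynomial ℚ).toRingHom (MvPolynomial.X l)).coeff p =
            Polynomial.C (t * e.coeff p) * Polynomial.X ^ p := fun p => by
        rw [coeff_pol]
        split_ifs with hp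
        · exact MvPolynomial.aeval_X _ _
        · rw [Polynomial.coeff_eq_zero_of_natDegree_lt (show e.natDegree < p by omega), mul_zero, map_zero, zero_mul]
      rw [hc, hc, ← (Finset.HasAntidiagonal.mem_antidiagonal.1 hab), map_mul, map_mul, map_mul, map_mul, map_pow, pow_add]
      ring
    have hdvd : (Polynomial.X : Polynomial ℚ) ^ (n + 1) ∣ MvPolynomial.aeval f D := by
      have h1 := dvd_aeval_sub ((Polynomial.X : Polynomial ℚ) ^ (n + 1)) (f := f) (f' := f') (fun i => ?_) D
      · rwa [hf', sub_zero] at h1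
      by_cases hi : (i : ℕ) ≤ n
      · have : f i = f' i := by
          simp only [f, f']
          rw [hej _ hi, Polynomial.coeff_add, Polynomial.coeff_one, Polynomial.coeff_X]
          rcases (i : ℕ) with _ | _ | q <;> simp
        rw [this, sub_self]
        exact dvd_zero _
      · refine dvd_sub ?_ (dvd_mul_of_dvd_right (pow_dvd_pow _ (by omega)) _)
        simp only [f]
        rw [if_neg (by omega), if_neg (by omega)]
        exact dvd_zero _
    have hR : MvPolynomial.aeval f D = 0 := by
      refine Polynomial.eq_zero_of_dvd_of_natDegree_lt hdvd ?_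
      rw [Polynomial.natDegree_X_pow]
      refine lt_of_le_of_lt (AVEuler.natDegree_aeval_le D hDd f fun i => ?_) (by omega)
      simp only [f]
      split_ifs
      · exact (Polynomial.natDegree_C _).le.trans zero_le_one
      · exact Polynomial.natDegree_C_mul_le _ _ |>.trans Polynomial.natDegree_X_le
      · simp
    have h1 := congrArg (Polynomial.eval (c₁ / t ^ 2)) hR
    rw [AVEuler.eval_aeval_poly, Polynomial.eval_zero] at h1
    refine Eq.trans ?_ h1
    congr 2
    funext i
    simp only [f]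
    split_ifs
    · rw [Polynomial.eval_C]
    · rw [Polynomial.eval_mul, Polynomial.eval_C, Polynomial.eval_X, mul_div_cancel₀ _ (pow_ne_zero 2 ht)]
    · rw [Polynomial.eval_zero]
  let σ₂ : Fin (m + 1) → MvPolynomial (Fin 2) ℚ := fun i =>
    if (i : ℕ) = 0 then MvPolynomial.X 0 else if (i : ℕ) = 1 then MvPolynomial.X 1 else 0
  have h2v : MvPolynomial.aeval σ₂ D = 0 := by
    refine MvPolynomial.funext_set ![Set.range fun q : ℕ => ((q : ℚ) + 1) ^ 2, Set.univ] (fun i => ?_) fun x hx => ?_
    · fin_cases i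
      · exact Set.infinite_range_of_injective fun a b hab => by
          have := (sq_eq_sq₀ (by positivity) (by positivity)).1 hab
          exact_mod_cast add_right_cancel this
      · exact Set.infinite_univ
    obtain ⟨q, hq⟩ : ∃ q : ℕ, ((q : ℚ) + 1) ^ 2 = x 0 := hx 0 (Set.mem_univ _)
    rw [Snapper.eval_aeval, map_zero]
    refine Eq.trans ?_ (hline ((q : ℚ) + 1) (by positivity) (x 1))
    congr 2
    funext i
    simp only [σ₂]
    split_ifs <;> simp [hq]
  -- evaluation
  let c : Fin (m + 1) → ℤ := fun i => (Polynomial.X + Polynomial.C j : Polynomial ℤ).coeff i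
  have hval : MvPolynomial.eval (fun i => (c i : ℚ)) D = 0 := by
    have h1 := congrArg (MvPolynomial.eval ![(j : ℚ), 1]) h2v
    rw [Snapper.eval_aeval, map_zero] at h1
    refine Eq.trans ?_ h1
    congr 2
    funext i
    simp only [σ₂, c, Polynomial.coeff_add, Polynomial.coeff_X, Polynomial.coeff_C]
    rcases (i : ℕ) with _ | _ | q <;> simp
  simp only [D, map_sub, map_mul, map_pow, MvPolynomial.eval_C] at hval
  rw [← hNv m (Polynomial.X + Polynomial.C j) ((Polynomial.natDegree_X_add_C j).le.trans (by omega)), map_add,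
    Polynomial.aeval_X, Polynomial.aeval_C, eq_intCast] at hval
  obtain ⟨W, hW, hWu, hWe⟩ := hUe c
  have hWP : PicF.cl W = PicF.cl (AVRoots.P hM hL ((1 : ℕ) : ℤ) j) := by
    rw [← val_ucl hW, hWu, AVRoots.cl_P, Nat.cast_one, zpow_one]
    congr 1
    have h0 : ucl (hLs ⟨0, by omega⟩) = ucl hL.1 := Units.ext (by
      rw [val_ucl, val_ucl]
      simp only [Ls, if_pos (show Even 0 from Even.zero)]
      show PicF.pullCl _ (PicF.cl L) = _
      rw [Nat.zero_div, pow_zero, EndAV.End.toHom_one, Over.id_left]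
      exact PicClLib.pullCl_id _)
    have h1 : ucl (hLs ⟨1, by omega⟩) = ucl hM := Units.ext (by
      rw [val_ucl, val_ucl]
      simp only [Ls, if_neg (show ¬ Even 1 from Nat.not_even_one)]
      show PicF.pullCl _ (PicF.cl M) = _
      rw [show 1 / 2 = 0 from rfl, pow_zero, EndAV.End.toHom_one, Over.id_left]
      exact PicClLib.pullCl_id _)
    rw [show U c = ∏ i, ucl (hLs i) ^ c i from rfl,
      Finset.prod_eq_mul (⟨1, by omega⟩ : Fin (m + 1)) ⟨0, by omega⟩ (by simp) (fun i _ hi => ?_)
        (fun h' => absurd (Finset.mem_univ _) h') (fun h' => absurd (Finset.mem_univ _) h'), h0, h1]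
    · show ucl hM ^ (Polynomial.X + Polynomial.C j : Polynomial ℤ).coeff 1 *
        ucl hL.1 ^ (Polynomial.X + Polynomial.C j : Polynomial ℤ).coeff 0 = _
      rw [Polynomial.coeff_add, Polynomial.coeff_add, Polynomial.coeff_X_one, Polynomial.coeff_X_zero,
        Polynomial.coeff_C_zero, Polynomial.coeff_C, if_neg one_ne_zero, add_zero, zero_add, zpow_one]
    · have hi0 : (i : ℕ) ≠ 0 := fun h' => hi.2 (Fin.ext h')
      have hi1 : (i : ℕ) ≠ 1 := fun h' => hi.1 (Fin.ext h')
      simp only [c]
      rw [Polynomial.coeff_add, Polynomial.coeff_X_of_ne_one hi1, Polynomial.coeff_C, if_neg hi0, add_zero, zpow_zero]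
  have hWΦ : (chi W : ℚ) = Φ.eval (j : ℚ) := by
    unfold chi
    rw [CurveCohLib.euler_congr (k := k) (PicMul.cl_eq_iff.1 hWP).some, AVRoots.euler_P hM hL hg hΦ Nat.one_pos j]
    simp
  rw [← hWe, hWΦ] at hval
  linear_combination -hval

end Groth.Agent.AVTrace
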