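import Groth.Agent.AVTrace.Linear

/-!
# Finiteness for the Rosati form

The endomorphisms with an adjoint `Y` and `tr (Y X)` bounded form a finite set.
-/

noncomputable section

set_option autoImplicit false
set_option linter.style.haveILetI false
set_option linter.unusedSectionVars false
set_option backward.isDefEq.respectTransparency false
set_option backward.isDefEq.respectTransparency.types false
set_option maxHeartbeats 1000000
set_option synthInstance.maxHeartbeats 200000

universe u

open CategoryTheory CategoryTheory.Limits MonoidalCategory CartesianMonoidalCategory MonObj AlgebraicGeometry TopologicalSpace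

namespace Groth.Agent.AVTrace

open Groth.Agent Groth.Agent.H23 Groth.Agent.H23.TrivBasic Groth.Agent.AVCube Groth.Agent.AVPair Groth.Agent.AVTheta8
open Groth.Agent.VolLib Groth.Agent.AVCharpoly
open scoped Groth.Agent.H23.PicMul

variable {k : Type u} [Field k] [IsAlgClosed k] {A : Over (Spec (CommRingCat.of k))} [GrpObj A] [IsCommMonObj A]
  [IsProper A.hom] [GeometricallyIntegral A.hom] {L : A.left.Modules}

/-- Only zero is adjoint to zero. -/
theorem eq_zero_of_adj_zero (hL : CohB1.IsAmple L) {X : EndAV.End A} (h : Adj hL.1 X 0) : X = 0 := by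
  by_contra hne
  have := trD_adj_mul_pos hL h hne
  rw [zero_mul, show trD (0 : EndAV.End A) = 0 from map_zero trHom] at this
  exact lt_irrefl _ this

theorem adj_unique (hL : CohB1.IsAmple L) {X Y Y' : EndAV.End A} (h : Adj hL.1 X Y) (h' : Adj hL.1 X Y') :
    Y = Y' := by
  refine sub_eq_zero.1 (eq_zero_of_adj_zero hL ?_)
  have h1 := h.add h'.neg
  rw [add_neg_cancel, ← sub_eq_add_neg] at h1
  exact h1.symm

theorem trD_adj_symm (hL : CohB1.IsAmple L) {X X' Z Z' : EndAV.End A} (hX : Adj hL.1 X X') (hZ : Adj hL.1 Z Z') :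
    trD (X' * Z) = trD (Z' * X) := by
  have h : Adj hL.1 (X' * Z) (Z' * X) := hX.symm.mul hZ
  have hκ : Adj hL.1 (X' * Z - Z' * X) (-(X' * Z - Z' * X)) := by
    rw [neg_sub, sub_eq_add_neg, sub_eq_add_neg]
    exact h.add h.symm.neg
  have h0 := trD_skew hL hκ
  rwa [trD_sub, sub_eq_zero] at h0

/-- **Finiteness of bounded endomorphisms.** -/
theorem finite_bounded (hL : CohB1.IsAmple L) (c : ℚ) :
    {X : EndAV.End A | ∃ Y, Adj hL.1 X Y ∧ trD (Y * X) ≤ c}.Finite := by
  classical
  haveI : Module.Finite ℤ (EndAV.End A) := AVHomForm.moduleFinite_hom (A := A) (B := A)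
  haveI : Module.Free ℤ (EndAV.End A) := AVHomForm.moduleFree_hom (A := A) (B := A)
  let W : Submodule ℤ (EndAV.End A) :=
    AddSubgroup.toIntSubmodule
      { carrier := {X | ∃ Y, Adj hL.1 X Y}
        add_mem' := fun ⟨Y, hY⟩ ⟨Y', hY'⟩ => ⟨Y + Y', hY.add hY'⟩
        zero_mem' := ⟨0, Adj.zero⟩
        neg_mem' := fun ⟨Y, hY⟩ => ⟨-Y, hY.neg⟩ }
  obtain ⟨n, b⟩ := Submodule.basisOfPid (Module.Free.chooseBasis ℤ (EndAV.End A)) W
  have hb : ∀ i, ∃ Y, Adj hL.1 (b i : EndAV.End A) Y := fun i => (b i).2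
  choose E hE using hb
  let G : Matrix (Fin n) (Fin n) ℚ := fun i j => trD (E i * (b j : EndAV.End A))
  -- adjoints of combinations
  have hcomb : ∀ a : Fin n → ℤ, Adj hL.1 (∑ i, a i • (b i : EndAV.End A)) (∑ i, a i • E i) := fun a => by
    induction (Finset.univ : Finset (Fin n)) using Finset.induction_on with
    | empty => simpa using Adj.zero
    | insert i t hi ih =>
      rw [Finset.sum_insert hi, Finset.sum_insert hi]
      refine Adj.add ?_ ih
      rw [zsmul_eq_mul, zsmul_eq_mul]
      have h1 := (Adj.intCast (hL := hL.1) (a i)).mul (hE i)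
      rwa [← (Int.cast_commute (a i) (E i)).eq] at h1
  have hb' : ∀ (a : Fin n → ℤ) (j : Fin n), trD ((∑ i, a i • E i) * (b j : EndAV.End A)) =
      Matrix.vecMul (fun i => (a i : ℚ)) G j := fun a j => by
    rw [Finset.sum_mul, trD_sum]
    refine Finset.sum_congr rfl fun i _ => ?_
    rw [zsmul_eq_mul, _root_.mul_assoc, trD_zsmul]
  have hq : ∀ a : Fin n → ℤ, trD ((∑ i, a i • E i) * ∑ j, a j • (b j : EndAV.End A)) =
      ∑ j, (a j : ℚ) * Matrix.vecMul (fun i => (a i : ℚ)) G j := fun a => by
    rw [Finset.mul_sum, trD_sum]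
    refine Finset.sum_congr rfl fun j _ => ?_
    rw [zsmul_eq_mul, ← _root_.mul_assoc, ← (Int.cast_commute (a j) _).eq, _root_.mul_assoc, trD_zsmul, hb']
  have hdet : IsUnit G.det := by
    rw [isUnit_iff_ne_zero]
    intro hd
    obtain ⟨v, hv, hvG⟩ := Matrix.exists_vecMul_eq_zero_iff.2 hd
    obtain ⟨N, hN⟩ := IsLocalization.exist_integer_multiples_of_finite (nonZeroDivisors ℤ) v
    choose a ha using hN
    have ha' : (fun i => (a i : ℚ)) = ((N : ℤ) : ℚ) • v := funext fun i => by
      have h1 := ha i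
      rw [zsmul_eq_mul] at h1
      exact h1
    refine hv ?_
    have hX : ∑ i, a i • (b i : EndAV.End A) = 0 := by
      by_contra hne
      have hpos := trD_adj_mul_pos hL (hcomb a) hne
      rw [hq, ha', Matrix.smul_vecMul, hvG, smul_zero] at hpos
      simp at hpos
    have ha0 : ∀ i, a i = 0 := by
      refine Fintype.linearIndependent_iff.1 b.linearIndependent a (Subtype.ext ?_)
      rw [Submodule.coe_sum]
      exact hX
    funext i
    have h1 := congrFun ha' i
    rw [ha0, Int.cast_zero, Pi.smul_apply, smul_eq_mul, eq_comm, mul_eq_zero] at h1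
    exact h1.resolve_left (Int.cast_ne_zero.2 (nonZeroDivisors.coe_ne_zero N))
  let R : Fin n → ℤ := fun i => ⌈∑ j, |G⁻¹ j i| * (|c| + |G j j|)⌉
  refine ((Set.finite_Icc (fun i => -R i) R).image fun a : Fin n → ℤ => ∑ i, a i • (b i : EndAV.End A)).subset ?_
  rintro X ⟨Y, hY, hc⟩
  let a : Fin n → ℤ := fun i => b.repr (⟨X, Y, hY⟩ : W) i
  have hXa : ∑ i, a i • (b i : EndAV.End A) = X := by
    have h1 := congrArg Subtype.val (b.sum_repr (⟨X, Y, hY⟩ : W))
    rw [Submodule.coe_sum] at h1
    exact h1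
  have hYa : ∑ i, a i • E i = Y := adj_unique hL (hXa ▸ hcomb a) hY
  let v : Fin n → ℚ := fun j => trD (Y * (b j : EndAV.End A))
  have hv : Matrix.vecMul (fun i => (a i : ℚ)) G = v := funext fun j => by rw [← hb', hYa]
  have hvb : ∀ j, |v j| ≤ |c| + |G j j| := fun j => by
    have hp := trD_adj_mul_nonneg hL (hY.add (hE j))
    have hm := trD_adj_mul_nonneg hL (hY.add (hE j).neg)
    have hs := trD_adj_symm hL hY (hE j)
    have hadd : ∀ x y : EndAV.End A, trD (x + y) = trD x + trD y := fun x y => (trD_add_and_comm x y).1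
    have hneg : ∀ x : EndAV.End A, trD (-x) = -trD x := map_neg trHom
    simp only [add_mul, mul_add, neg_mul, mul_neg, neg_neg, hadd, hneg, ← hs] at hp hm
    rw [abs_le]
    have h1 := le_abs_self c
    have h2 := le_abs_self (G j j)
    have h3 : trD (E j * (b j : EndAV.End A)) = G j j := rfl
    have h4 := abs_nonneg c
    have h5 := abs_nonneg (G j j)
    constructor <;> simp only [v] <;> linarith
  have hbound : ∀ i, |(a i : ℚ)| ≤ (R i : ℚ) := fun i => by
    have h1 : (a i : ℚ) = Matrix.vecMul v G⁻¹ i := by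
      rw [← hv, Matrix.vecMul_vecMul, Matrix.mul_nonsing_inv _ hdet, Matrix.vecMul_one]
    rw [h1]
    refine le_trans ?_ (Int.le_ceil _)
    refine (Finset.abs_sum_le_sum_abs _ _).trans (Finset.sum_le_sum fun j _ => ?_)
    rw [abs_mul, mul_comm]
    exact mul_le_mul_of_nonneg_left (hvb j) (abs_nonneg _)
  refine ⟨a, ⟨fun i => ?_, fun i => ?_⟩, hXa⟩
  · have := (abs_le.1 (hbound i)).1
    exact_mod_cast this
  · have := (abs_le.1 (hbound i)).2
    exact_mod_cast this

end Groth.Agent.AVTrace
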