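import Groth.Agent.AVTrace.Squares
import Groth.Agent.AVTrace.Finite
import Groth.Agent.S7795
import Groth.Agent.Lib.AVPicZero
import Groth.Agent.Lib.PicZeroPrim
import Groth.Agent.AVDualCx.Exists
import Groth.Agent.AVSubLib.DegDet
import Groth.Agent.GrpSchLib.SmoothReduced

/-!
# The homomorphism of a module to the dual, and positivity of composites
-/

noncomputable section

set_option autoImplicit false
set_option linter.style.haveILetI false
set_option linter.unusedSectionVars false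
set_option backward.isDefEq.respectTransparency false
set_option backward.isDefEq.respectTransparency.types false
set_option maxHeartbeats 1000000
set_option synthInstance.maxHeartbeats 200000

universe u

open CategoryTheory CategoryTheory.Limits MonoidalCategory CartesianMonoidalCategory MonObj AlgebraicGeometry TopologicalSpace

namespace Groth.Agent.AVTrace

open Groth.Agent Groth.Agent.H23 Groth.Agent.H23.TrivBasic Groth.Agent.AVCube Groth.Agent.AVPair Groth.Agent.AVTheta8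
open Groth.Agent.VolLib Groth.Agent.AVCharpoly Groth.Agent.AVDual
open scoped Groth.Agent.H23.PicMul

variable {k : Type u} [Field k] [IsAlgClosed k] {A : Over (Spec (CommRingCat.of k))} [GrpObj A] [IsCommMonObj A]
  [IsProper A.hom] [GeometricallyIntegral A.hom] {L M : A.left.Modules}

local notation "pt₀" => 𝟙_ (Over (Spec (CommRingCat.of k)))

/-- Only zero sends all points into the kernel of `φ_L`. -/
theorem eq_zero_of_delta' (hL : CohB1.IsAmple L) (κ : EndAV.End A)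
    (h : ∀ x : pt₀ ⟶ A, delta hL.1 (x ≫ κ.toHom) = 1) : κ = 0 :=
  eq_zero_of_adj_zero hL (Adj.symm (show Adj hL.1 0 κ from fun x => by
    rw [EndAV.End.toHom_zero, pull_delta_one, h x]))

/-- **The trace of a product of two positive symmetric endomorphisms.** -/
theorem trD_mul_pos (hL : CohB1.IsAmple L) {α β : EndAV.End A} (hα : Adj hL.1 α α) (hβ : Adj hL.1 β β)
    {M₁ M₂ : A.left.Modules} (hM₁ : PicF.IsInvertible M₁) (hM₂ : PicF.IsInvertible M₂)
    (s₁ : Coh.structureModule A.left ⟶ M₁) (hs₁ : s₁ ≠ 0) (s₂ : Coh.structureModule A.left ⟶ M₂) (hs₂ : s₂ ≠ 0)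
    {m₁ m₂ : ℕ} (hm₁ : 0 < m₁) (hm₂ : 0 < m₂) (h₁ : Corr hL.1 hM₁ ((m₁ : EndAV.End A) * α))
    (h₂ : Corr hL.1 hM₂ ((m₂ : EndAV.End A) * β)) (hαβ : α * β ≠ 0) : 0 < trD (α * β) := by
  obtain ⟨n₁, y₁, hy₁, hs₁'⟩ := exists_squares hL hM₁ s₁ hs₁ (left_ne_zero_of_mul hαβ) hα hm₁ h₁
  obtain ⟨n₂, y₂, hy₂, hs₂'⟩ := exists_squares hL hM₂ s₂ hs₂ (right_ne_zero_of_mul hαβ) hβ hm₂ h₂
  obtain ⟨N₁, H, hN₁, hH⟩ := exists_int_squares hy₁ hs₁'
  obtain ⟨N₂, G, hN₂, hG⟩ := exists_int_squares hy₂ hs₂'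
  let h : Fin n₁ → EndAV.End A := fun j => Polynomial.aeval α (H j)
  let g : Fin n₂ → EndAV.End A := fun i => Polynomial.aeval β (G i)
  have hA : ∀ j i, Adj hL.1 (h j * g i) (g i * h j) := fun j i => (hα.aeval (H j)).mul (hβ.aeval (G i))
  have he : ((N₁ * N₂ : ℕ) : EndAV.End A) * (α * β) = ∑ j, ∑ i, h j * h j * (g i * g i) := by
    rw [← Finset.sum_mul_sum, ← hH, ← hG, Nat.cast_mul]
    simp only [_root_.mul_assoc]
    rw [← _root_.mul_assoc (N₂ : EndAV.End A) α, (Nat.cast_commute N₂ α).eq, _root_.mul_assoc]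
  have hterm : ∀ j i, trD (h j * h j * (g i * g i)) = trD (g i * h j * (h j * g i)) := fun j i => by
    rw [show h j * h j * (g i * g i) = h j * h j * g i * g i by simp only [_root_.mul_assoc], trD_comm]
    simp only [_root_.mul_assoc]
  obtain ⟨j₀, i₀, hne⟩ : ∃ j i, h j * g i ≠ 0 := by
    by_contra hall
    push Not at hall
    refine hαβ (toEnd0_injective ?_)
    have h1 := congrArg (EndAV.toEnd0 (A := A)) he
    rw [show (∑ j, ∑ i, h j * h j * (g i * g i)) = 0 from Finset.sum_eq_zero fun j _ => Finset.sum_eq_zero fun i _ => by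
        rw [show h j * h j * (g i * g i) = h j * (h j * g i) * g i by simp only [_root_.mul_assoc], hall, mul_zero,
          zero_mul], map_mul, map_natCast, map_zero, ← nsmul_eq_mul, ← Nat.cast_smul_eq_nsmul ℚ] at h1
    have h2 := congrArg (fun v : EndAV.End0 A => ((N₁ * N₂ : ℕ) : ℚ)⁻¹ • v) h1
    simp only [inv_smul_smul₀ (Nat.cast_ne_zero.2 (Nat.mul_pos hN₁ hN₂).ne' : ((N₁ * N₂ : ℕ) : ℚ) ≠ 0), smul_zero] at h2
    rw [h2, map_zero]
  have hpos : 0 < trD (((N₁ * N₂ : ℕ) : EndAV.End A) * (α * β)) := by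
    rw [he, trD_sum]
    refine Finset.sum_pos' (fun j _ => ?_) ⟨j₀, Finset.mem_univ _, ?_⟩
    · rw [trD_sum]
      exact Finset.sum_nonneg fun i _ => by rw [hterm]; exact trD_adj_mul_nonneg hL (hA j i)
    · rw [trD_sum]
      refine Finset.sum_pos' (fun i _ => by rw [hterm]; exact trD_adj_mul_nonneg hL (hA j₀ i))
        ⟨i₀, Finset.mem_univ _, ?_⟩
      rw [hterm]
      exact trD_adj_mul_pos hL (hA j₀ i₀) hne
  rw [trD_nsmul] at hpos
  exact pos_of_mul_pos_right hpos (Nat.cast_nonneg _)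

theorem instances : Smooth A.hom ∧ GeometricallyConnected A.hom := by
  haveI : GeometricallyReduced A.hom := inferInstance
  haveI : GeometricallyIrreducible A.hom := inferInstance
  haveI : GeometricallyConnected A.hom := ⟨fun K' _ x Z a b hp => by
    haveI : IsIntegral Z := GeometricallyIntegral.geometrically_isIntegral (f := A.hom) x a b hp
    infer_instance⟩
  exact ⟨S7795.result A, inferInstance⟩

/-- Rigidified classes over a point are determined by the point of the dual. -/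
theorem eq_of_phi_pt {X Xt : Over (Spec (CommRingCat.of k))} [GrpObj X] [IsProper X.hom] [GeometricallyIntegral X.hom]
    [GrpObj Xt] {φ : ∀ T : Over (Spec (CommRingCat.of k)), PicF.Cl (PicF.XT X.hom T) → (T ⟶ Xt)}
    (hφ : AbDual.IsDualAV Scheme.fppfPrecoverage X Xt φ) {c c' : PicF.Cl (X ⊗ pt₀).left}
    (h : PZ X pt₀ c) (h' : PZ X pt₀ c') (e : φ pt₀ c = φ pt₀ c') : c = c' := by
  haveI : IsReduced (pt₀).left := inferInstanceAs (IsReduced (Spec (CommRingCat.of k)))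
  haveI : LocallyOfFiniteType (pt₀).hom := inferInstanceAs (LocallyOfFiniteType (𝟙 _))
  haveI : Subsingleton ↥(pt₀).left := inferInstanceAs (Subsingleton (PrimeSpectrum k))
  haveI : Nonempty ↥(pt₀).left := inferInstanceAs (Nonempty (PrimeSpectrum k))
  have hpt : ∀ {d : PicF.Cl (pt₀).left}, PicF.IsInvertibleCl d → d = 1 := by
    rintro d ⟨D, rfl, hD⟩
    exact KLBasic.trivial_of_subsingleton hD
  exact eq_of_phi hφ h h' e 1 ((hpt (isInv_pl _ (pz_invertible h))).trans (hpt (isInv_pl _ (pz_invertible h'))).symm)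

variable {At : Over (Spec (CommRingCat.of k))} [GrpObj At] [IsProper At.hom] [GeometricallyIntegral At.hom]
  {φ : ∀ T : Over (Spec (CommRingCat.of k)), PicF.Cl (PicF.XT A.hom T) → (T ⟶ At)}

/-- The class of a point of the dual. -/
def cls (ξ : PicF.Cl (A ⊗ At).left) (y : pt₀ ⟶ At) : PicF.Cl A.left := pl (lift (𝟙 A) (toUnit A ≫ y)) ξ

theorem pl_fst_cls (ξ : PicF.Cl (A ⊗ At).left) (y : pt₀ ⟶ At) :
    pl (fst A pt₀) (cls ξ y) = pl (A ◁ y) ξ := by
  rw [cls, pl_pl]
  refine congrArg (fun f => pl f ξ) ?_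
  ext
  · rw [Category.assoc, lift_fst, Category.comp_id, whiskerLeft_fst]
  · rw [Category.assoc, lift_snd, whiskerLeft_snd, ← Category.assoc,
      toUnit_unique (fst A pt₀ ≫ toUnit A) (snd A pt₀)]

variable (hφ : AbDual.IsDualAV Scheme.fppfPrecoverage A At φ) {ξ : PicF.Cl (A ⊗ At).left}
  (hξ : AbDual.IsPoincareCl A At φ ξ)
include hφ hξ

theorem phi_cls (y : pt₀ ⟶ At) : φ pt₀ (pl (fst A pt₀) (cls ξ y)) = y := by
  rw [pl_fst_cls, phi_pl hφ y hξ.1, hξ.2.1, Category.comp_id]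

theorem cls_inj {y y' : pt₀ ⟶ At} (h : cls ξ y = cls ξ y') : y = y' := by
  rw [← phi_cls hφ hξ y, ← phi_cls hφ hξ y', h]

theorem cls_mul (y y' : pt₀ ⟶ At) : cls ξ (y * y') = cls ξ y * cls ξ y' := by
  have hz : ∀ z : pt₀ ⟶ At, PZ A pt₀ (pl (fst A pt₀) (cls ξ z)) := fun z => by
    rw [pl_fst_cls]; exact pz_pl z hξ.1
  haveI : IsProper (At ⊗ At).hom := AVIndex.isProper_tensor
  haveI : GeometricallyIntegral (At ⊗ At).hom := H23.MaxAbelian.geometricallyIntegral_tensor At At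
  have hP : PZ A (At ⊗ At) (pl (A ◁ fst At At) ξ * pl (A ◁ snd At At) ξ) := by
    refine pz_of_slice (lift (1 : pt₀ ⟶ At) 1)
      (PicMul.isInvertibleCl_mul (isInv_pl _ (pz_invertible hξ.1)) (isInv_pl _ (pz_invertible hξ.1))) ?_
    rw [map_mul, pl_pl, pl_pl, lift_whiskerLeft, lift_whiskerLeft, Category.assoc, Category.assoc, lift_fst, lift_snd,
      MonObj.comp_one, (poincare_axes hφ hξ).2, _root_.mul_one]
  have hmul : PZ A pt₀ (pl (fst A pt₀) (cls ξ y) * pl (fst A pt₀) (cls ξ y')) := by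
    have h := pz_pl (lift y y') hP
    rwa [map_mul, pl_pl, pl_pl, ← MonoidalCategory.whiskerLeft_comp, ← MonoidalCategory.whiskerLeft_comp, lift_fst,
      lift_snd, ← pl_fst_cls ξ y, ← pl_fst_cls ξ y'] at h
  have h := eq_of_phi_pt hφ (hz (y * y')) hmul
    (by rw [phi_mul hφ (hz y) (hz y'), phi_cls hφ hξ, phi_cls hφ hξ, phi_cls hφ hξ])
  have h1 := congrArg (pl (lift (𝟙 A) (toUnit A))) h
  simpa only [map_mul, pl_pl, lift_fst, pl_id] using h1

theorem cls_one : cls ξ (1 : pt₀ ⟶ At) = 1 := by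
  rw [cls, MonObj.comp_one]
  exact (poincare_axes hφ hξ).2

theorem cls_pow (y : pt₀ ⟶ At) : ∀ n : ℕ, cls ξ (y ^ n) = cls ξ y ^ n
  | 0 => by rw [pow_zero, pow_zero, cls_one hφ hξ]
  | n + 1 => by rw [pow_succ, cls_mul hφ hξ, cls_pow y n, pow_succ]

theorem cls_invariant (y : pt₀ ⟶ At) (b : pt₀ ⟶ A) : pl (CubeAb.tr b) (cls ξ y) = cls ξ y := by
  obtain ⟨h1, h2⟩ := instances (A := A)
  haveI := h1
  haveI := h2
  have hrig : PicF.pullCl (PicF.secT A.hom η[A].left (Over.w η[A]) At) ξ = 1 := by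
    rw [AVDual.secT_eq]
    exact (poincare_axes hφ hξ).1
  have h := congrArg (PicF.pullCl (lift (𝟙 A) (toUnit A ≫ lift b y)).left) (PicZeroPrim.primitive hφ hξ.1 hrig)
  rw [PicMul.pullCl_mul, AVDual.xtMap_eq, AVDual.xtProj_eq, PicClLib.pullCl_comp, PicClLib.pullCl_comp,
    PicClLib.pullCl_comp, ← Over.comp_left, ← Over.comp_left, ← Over.comp_left, lift_snd] at h
  have hc : pl (toUnit A ≫ lift b y) ξ = 1 := pl_const (pz_invertible hξ.1) (lift b y)
  rw [show PicF.pullCl (toUnit A ≫ lift b y).left ξ = 1 from hc, _root_.one_mul] at h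
  show pl (CubeAb.tr b) (pl (lift (𝟙 A) (toUnit A ≫ y)) ξ) = pl (lift (𝟙 A) (toUnit A ≫ y)) ξ
  rw [pl_pl]
  refine Eq.trans (congrArg (fun f : A ⟶ A ⊗ At => pl f ξ) ?_)
    (h.trans (congrArg (fun f : A ⟶ A ⊗ At => pl f ξ) ?_))
  · ext <;> simp [CubeAb.tr, MonObj.comp_mul, MonObj.mul_comp]
  · ext <;> simp

/-- The homomorphism attached to a module. -/
def IsLamOf (hM : PicF.IsInvertible M) (l : A ⟶ At) : Prop :=
  pl (A ◁ l) ξ = (lam hM (fst A A) (snd A A) : PicF.Cl (A ⊗ A).left)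

omit hφ hξ in
theorem IsLamOf.pair {hM : PicF.IsInvertible M} {l : A ⟶ At} (h : IsLamOf (ξ := ξ) hM l)
    {T : Over (Spec (CommRingCat.of k))} (f g : T ⟶ A) :
    pl (lift f (g ≫ l)) ξ = (lam hM f g : PicF.Cl T.left) := by
  rw [show lift f (g ≫ l) = lift f g ≫ A ◁ l by rw [lift_whiskerLeft], ← pl_pl, h]
  have h1 := congrArg Units.val (pull_lam hM (lift f g) (fst A A) (snd A A))
  rw [lift_fst, lift_snd] at h1
  exact h1

omit hφ hξ in
theorem IsLamOf.cls_eq {hM : PicF.IsInvertible M} {l : A ⟶ At} (h : IsLamOf (ξ := ξ) hM l) (x : pt₀ ⟶ A) :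
    cls ξ (x ≫ l) = (delta hM x : PicF.Cl A.left) := by
  rw [cls, ← Category.assoc, h.pair, lam_id_const]

theorem isLamOf_phi (hM : PicF.IsInvertible M) :
    IsLamOf (ξ := ξ) hM (φ A (lam hM (fst A A) (snd A A) : PicF.Cl (A ⊗ A).left)) := by
  haveI : IsIntegral A.left := GeometricallyIntegral.isIntegral_of_subsingleton A.hom
  have hN : PZ A A (lam hM (fst A A) (snd A A) : PicF.Cl (A ⊗ A).left) := by
    refine pz_of_slice η[A] (isInvertibleCl_lam hM _ _) ?_
    have h1 := congrArg Units.val (pull_lam hM (lift (𝟙 A) (toUnit A ≫ η[A])) (fst A A) (snd A A))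
    rw [lift_fst, lift_snd] at h1
    refine Eq.trans h1 ?_
    rw [← Hom.one_def, lam_comm, lam_one_left, Units.val_one]
  refine eq_of_phi hφ (pz_pl _ hξ.1) hN (by rw [phi_pl hφ _ hξ.1, hξ.2.1, Category.comp_id]) 1 ?_
  rw [pl_pl, show lift (1 : A ⟶ A) (𝟙 A) ≫ A ◁ φ A (lam hM (fst A A) (snd A A) : PicF.Cl (A ⊗ A).left) =
      φ A (lam hM (fst A A) (snd A A) : PicF.Cl (A ⊗ A).left) ≫ lift (1 : At ⟶ A) (𝟙 At) by
    ext <;> simp [MonObj.comp_one], ← pl_pl, (poincare_axes hφ hξ).1, map_one]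
  have h1 := congrArg Units.val (pull_lam hM (lift (1 : A ⟶ A) (𝟙 A)) (fst A A) (snd A A))
  rw [lift_fst, lift_snd, lam_one_left, Units.val_one] at h1
  exact h1.symm

theorem isLamOf_of_isLambda (hM : PicF.IsInvertible M) {l : A ⟶ At} (hl : AgPol.IsLambda A At φ M l) :
    IsLamOf (ξ := ξ) hM l := by
  obtain ⟨N, hN, hNL, rfl⟩ := hl
  have hrel : (PicF.cl N : PicF.Cl (A ⊗ A).left) * pl (fst A A) (PicF.cl M) * pl (snd A A) (PicF.cl M) =
      pl μ[A] (PicF.cl M) := (PicGrp.cl_eq_cl_iff _ _).2 hNL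
  have he : (lam hM (fst A A) (snd A A) : PicF.Cl (A ⊗ A).left) = PicF.cl N := by
    have hu : (PicMul.isUnit_of_isInvertibleCl ⟨N, rfl, hN⟩).unit = lam hM (fst A A) (snd A A) := by
      rw [lam, eq_div_iff_mul_eq']
      refine Units.ext ?_
      rw [Units.val_mul, Units.val_mul, ← _root_.mul_assoc, IsUnit.unit_spec]
      show (PicF.cl N : PicF.Cl (A ⊗ A).left) * pl (fst A A) (PicF.cl M) * pl (snd A A) (PicF.cl M) =
        pl (fst A A * snd A A) (PicF.cl M)
      rw [hrel, show fst A A * snd A A = μ[A] by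
        show lift (fst A A) (snd A A) ≫ μ[A] = μ[A]
        rw [lift_fst_snd, Category.id_comp]]
    rw [← hu, IsUnit.unit_spec]
  have := isLamOf_phi hφ hξ hM
  rwa [he] at this

theorem isMonHom_lam {hM : PicF.IsInvertible M} {l : A ⟶ At} (h : IsLamOf (ξ := ξ) hM l) : IsMonHom l := by
  refine GrpSchLib.RigidHom.isMonHom_of_one l (cls_inj hφ hξ ?_)
  rw [h.cls_eq, show (η[A] : pt₀ ⟶ A) = 1 by rw [Hom.one_def, toUnit_unique (toUnit pt₀) (𝟙 _), Category.id_comp],
    delta_pt_one, Units.val_one, cls_one hφ hξ]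

/-- **`φ_L` is an isogeny for ample `L`**, with a quasi-inverse. -/
theorem exists_quasi (hL : CohB1.IsAmple L) [IsCommMonObj At] {l : A ⟶ At} (h : IsLamOf (ξ := ξ) hL.1 l) :
    Surjective l.left ∧ ∃ (n : ℕ) (ψ : At ⟶ A) (_ : IsMonHom ψ), 0 < n ∧ ψ ≫ l = 𝟙 At ^ n := by
  haveI := isMonHom_lam hφ hξ h
  haveI : IsIntegral A.left := GeometricallyIntegral.isIntegral_of_subsingleton A.hom
  haveI : IsIntegral At.left := GeometricallyIntegral.isIntegral_of_subsingleton At.hom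
  haveI : IsProper l.left := by
    haveI : IsProper (l.left ≫ At.hom) := by rw [Over.w]; infer_instance
    exact IsProper.of_comp l.left At.hom
  have hLf : (AVIndex.fixSet₀ L).Finite := by
    have hc := AVRoots.conc_of_isAmple hL
    exact AVIndex.finite_fixSet_of_concentrated hL.1 hc.1 hc.2
  have hker : Set.Finite {a : pt₀ ⟶ A | a ≫ l = 1} := hLf.subset fun a ha => by
    rw [AVIndex.mem_fixSet₀_iff hL.1]
    refine Units.ext ?_
    rw [← h.cls_eq, show a ≫ l = 1 from ha, cls_one hφ hξ, Units.val_one]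
  have hsurj : ∀ y : pt₀ ⟶ At, ∃ a : pt₀ ⟶ A, a ≫ l = y := fun y => by
    obtain ⟨Mc, hMc, hMi⟩ : PicF.IsInvertibleCl (cls ξ y) := isInv_pl _ (pz_invertible hξ.1)
    obtain ⟨a, ha⟩ := exists_translate hL.1 hMi (fun b => by
      show pl (CubeAb.tr b) (PicF.cl Mc) = PicF.cl Mc
      rw [hMc]; exact cls_invariant hφ hξ y b) hLf
    refine ⟨a, cls_inj hφ hξ ?_⟩
    rw [h.cls_eq, ← hMc, delta, div_eq_mul_inv, Units.val_mul]
    show CubeAb.F (PicF.cl L) (CubeAb.tr a) * _ = _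
    rw [ha, _root_.mul_assoc, ← val_pc_id hL.1, Units.mul_inv, _root_.mul_one]
  haveI : Surjective l.left := ⟨fun z => by
    by_contra hz
    let W : At.left.Opens := ⟨(Set.range l.left)ᶜ, l.left.isClosedMap.isClosed_range.isOpen_compl⟩
    obtain ⟨y, hy⟩ := AVAmple.exists_pt_mem (W := W) (fun h0 => by
      have : z ∈ W := hz
      rw [h0] at this
      exact this)
    obtain ⟨a, rfl⟩ := hsurj y
    exact hy ⟨a.left (IsLocalRing.closedPoint k), rfl⟩⟩
  haveI : JacobsonSpace A.left := LocallyOfFiniteType.jacobsonSpace A.hom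
  haveI : LocallyQuasiFinite l.left := AVAmple.locallyQuasiFinite_of_closed l.left fun q hq => by
    have hclosed : IsClosed (l.left ⁻¹' {q}) := hq.preimage l.left.continuous
    have hpts : (l.left ⁻¹' {q} ∩ closedPoints A.left).Finite := by
      rcases (l.left ⁻¹' {q} ∩ closedPoints A.left).eq_empty_or_nonempty with he | ⟨x₀, hx₀, hx₀c⟩
      · rw [he]; exact Set.finite_empty
      obtain ⟨a₀, rfl⟩ := AVAmple.exists_pt (mem_closedPoints_iff.1 hx₀c)
      refine ((hker.image (a₀ * ·)).image AVAmple.pt).subset ?_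
      rintro x ⟨hx, hxc⟩
      obtain ⟨a, rfl⟩ := AVAmple.exists_pt (mem_closedPoints_iff.1 hxc)
      have he : a ≫ l = a₀ ≫ l :=
        AVTheta8.pt_injective (show l.left (AVAmple.pt a) = l.left (AVAmple.pt a₀) from hx.trans hx₀.symm)
      exact ⟨a, ⟨a₀⁻¹ * a, by
        show (a₀⁻¹ * a) ≫ l = 1
        rw [MonObj.mul_comp, GrpObj.inv_comp, he, inv_mul_cancel], mul_inv_cancel_left _ _⟩, rfl⟩
    have hcl : IsClosed (l.left ⁻¹' {q} ∩ closedPoints A.left) := by
      rw [← Set.biUnion_of_singleton (_ ∩ closedPoints A.left)]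
      exact hpts.isClosed_biUnion fun y hy => mem_closedPoints_iff.1 hy.2
    have hsub : l.left ⁻¹' {q} ⊆ l.left ⁻¹' {q} ∩ closedPoints A.left := fun y hy => by
      by_contra hn
      obtain ⟨z, ⟨hz, hz'⟩, hzc⟩ := nonempty_inter_closedPoints
        (Z := l.left ⁻¹' {q} ∩ (l.left ⁻¹' {q} ∩ closedPoints A.left)ᶜ) ⟨y, hy, hn⟩
        (hclosed.isLocallyClosed.inter hcl.isOpen_compl.isLocallyClosed)
      exact hz' ⟨hz, hzc⟩
    exact hpts.subset hsub
  haveI : IsFinite l.left := IsFinite.of_isProper_of_locallyQuasiFinite l.left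
  obtain ⟨b⟩ : Nonempty At.left := inferInstance
  obtain ⟨-, -, hb1, ψ, hψm, -, -, -, -, hψl⟩ := AVSubLib.exists_quasiInverse A At l b
  exact ⟨inferInstance, _, ψ, hψm, hb1, hψl⟩

/-- An endomorphism corresponding to a power of a module. -/
theorem exists_corr (hL : CohB1.IsAmple L) [IsCommMonObj At] {l : A ⟶ At} (h : IsLamOf (ξ := ξ) hL.1 l) {n : ℕ}
    {ψ : At ⟶ A} [IsMonHom ψ] (hψ : ψ ≫ l = 𝟙 At ^ n) (hM : PicF.IsInvertible M) {m : A ⟶ At}
    (hm : IsLamOf (ξ := ξ) hM m) :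
    ∃ β : EndAV.End A, β.toHom = m ≫ ψ ∧ Corr hL.1 (PicMul.isInvertible_tensorPow hM n) β := by
  haveI := isMonHom_lam hφ hξ hm
  haveI := isMonHom_lam hφ hξ h
  refine ⟨EndAV.End.of (m ≫ ψ), rfl, fun x => Units.ext ?_⟩
  rw [← h.cls_eq, EndAV.End.toHom_of, Category.assoc, Category.assoc, hψ, ← Category.assoc, MonObj.comp_pow,
    Category.comp_id, cls_pow hφ hξ, hm.cls_eq, AVIndex.delta_tensorPow hM, Units.val_pow_eq_pow_val]

end Groth.Agent.AVTrace
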