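import Groth.Agent.AVTrace.Positive
import Groth.Agent.AVCharpoly.Minpoly
import Groth.Agent.AVHomForm.Rep
import Groth.Agent.S15662

/-!
# The trace of endomorphisms

`trD` is minus the subleading coefficient of the degree polynomial; it is additive, symmetric in products, and
positive on `Y * X` for non-zero `X` with adjoint `Y`.
-/

noncomputable section

set_option autoImplicit false
set_option linter.style.haveILetI false
set_option linter.unusedSectionVars false
set_option backward.isDefEq.respectTransparency false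
set_option backward.isDefEq.respectTransparency.types false
set_option maxHeartbeats 1000000
set_option synthInstance.maxHeartbeats 200000

universe u

open CategoryTheory CategoryTheory.Limits MonoidalCategory CartesianMonoidalCategory MonObj AlgebraicGeometry TopologicalSpace

namespace Groth.Agent.AVTrace

open Groth.Agent Groth.Agent.H23 Groth.Agent.H23.TrivBasic Groth.Agent.AVCube Groth.Agent.AVPair Groth.Agent.AVTheta8
open Groth.Agent.VolLib Groth.Agent.AVCharpoly
open scoped Groth.Agent.H23.PicMul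

variable {k : Type u} [Field k] [IsAlgClosed k] {A : Over (Spec (CommRingCat.of k))} [GrpObj A] [IsCommMonObj A]
  [IsProper A.hom] [GeometricallyIntegral A.hom] {L M : A.left.Modules}

local notation "pt₀" => 𝟙_ (Over (Spec (CommRingCat.of k)))
local notation "pk" => Over.mk (Spec.map (CommRingCat.ofHom (algebraMap k k)))

/-- The trace: minus the subleading coefficient of the degree polynomial (zero in dimension zero). -/
def trD (φ : EndAV.End A) : ℚ :=
  -((exists_isDegPoly (TorsPtsLib.exists_dim A).choose_spec φ).choose.nextCoeff)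

theorem trD_eq {g : ℕ} (hg : topologicalKrullDim A.left = g) {φ : EndAV.End A} {P : Polynomial ℚ}
    (hP : IsDegPoly φ P) : trD φ = -P.nextCoeff := by
  rw [trD, IsDegPoly.eq (exists_isDegPoly (TorsPtsLib.exists_dim A).choose_spec φ).choose_spec.2.2 hP]

theorem trD_eq_shift {g : ℕ} (hg : topologicalKrullDim A.left = g) (hg1 : 1 ≤ g) {φ : EndAV.End A} {P : Polynomial ℚ}
    (hPd : P.natDegree = 2 * g) (hP : IsShiftPoly φ P) : trD φ = P.coeff (2 * g - 1) := by
  have hd : (P.comp (-Polynomial.X)).natDegree = 2 * g := by rw [Polynomial.natDegree_comp, hPd]; simp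
  rw [trD_eq hg hP.isDegPoly, Polynomial.nextCoeff_of_natDegree_pos (by omega), hd,
    show (-Polynomial.X : Polynomial ℚ) = Polynomial.C (-1) * Polynomial.X by simp, Polynomial.comp_C_mul_X_coeff,
    Odd.neg_one_pow ⟨g - 1, by omega⟩]
  ring

theorem trD_eq_sum_roots {g : ℕ} (hg : topologicalKrullDim A.left = g) {φ : EndAV.End A} {P : Polynomial ℚ}
    (hPm : P.Monic) (hP : IsDegPoly φ P) : ((trD φ : ℚ) : ℂ) = (P.map (algebraMap ℚ ℂ)).roots.sum := by
  rw [trD_eq hg hP, ← neg_neg ((P.map (algebraMap ℚ ℂ)).roots.sum),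
    ← (IsAlgClosed.splits _).nextCoeff_eq_neg_sum_roots_of_monic (hPm.map _),
    Polynomial.nextCoeff_map (algebraMap ℚ ℂ).injective, eq_ratCast, Rat.cast_neg]

/-- The trace on a Tate module. -/
theorem trD_eq_trace (l : ℕ) [Fact l.Prime] (hl : (l : k) ≠ 0) [Module.Free ℤ_[l] (AbDual.TateMod A l pk)]
    [Module.Finite ℤ_[l] (AbDual.TateMod A l pk)] {g : ℕ} (hg : topologicalKrullDim A.left = g) (φ : EndAV.End A) :
    algebraMap ℚ ℚ_[l] (trD φ) =
      algebraMap ℤ_[l] ℚ_[l] (LinearMap.trace ℤ_[l] _ (EndAV.End.tateRep l pk φ)) := by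
  obtain ⟨P, hPm, hPd, hP⟩ := exists_isDegPoly hg φ
  have hrk := (AVHomForm.tate_free k l hl A hg).2.2
  let b := Module.finBasisOfFinrankEq ℤ_[l] (AbDual.TateMod A l pk) hrk
  have h := charpoly_eq k l hl hg φ hPm hPd hP
  rw [LinearMap.trace_eq_matrix_trace _ b, trD_eq hg hP, map_neg, ← Polynomial.nextCoeff_map
    (algebraMap ℚ ℚ_[l]).injective, ← h, Polynomial.nextCoeff_map (IsFractionRing.injective ℤ_[l] ℚ_[l]),
    ← LinearMap.charpoly_toMatrix _ b]
  rcases Nat.eq_zero_or_pos g with rfl | hg0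
  · rw [Polynomial.nextCoeff, if_pos (by rw [Matrix.charpoly_natDegree_eq_dim, Fintype.card_fin]), map_zero, neg_zero,
      Matrix.trace, show (Finset.univ : Finset (Fin (2 * 0))) = ∅ from Finset.univ_eq_empty (α := Fin 0), Finset.sum_empty, map_zero]
  · haveI : Nonempty (Fin (2 * g)) := ⟨⟨0, by omega⟩⟩
    rw [Matrix.trace_eq_neg_charpoly_coeff, Polynomial.nextCoeff_of_natDegree_pos (by
      rw [Matrix.charpoly_natDegree_eq_dim, Fintype.card_fin]; omega), Matrix.charpoly_natDegree_eq_dim, map_neg]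

theorem trD_add_and_comm (φ ψ : EndAV.End A) : trD (φ + ψ) = trD φ + trD ψ ∧ trD (φ * ψ) = trD (ψ * φ) := by
  obtain ⟨g, hg⟩ := TorsPtsLib.exists_dim A
  obtain ⟨l, hl, hlk⟩ := AVHomForm.exists_prime_ne_zero (k := k)
  haveI := hl
  obtain ⟨h1, h2, -⟩ := AVHomForm.tate_free k l hlk A hg
  haveI := h1
  haveI := h2
  constructor
  · apply (algebraMap ℚ ℚ_[l]).injective
    rw [map_add, trD_eq_trace l hlk hg, trD_eq_trace l hlk hg, trD_eq_trace l hlk hg, map_add, map_add, map_add]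
  · apply (algebraMap ℚ ℚ_[l]).injective
    rw [trD_eq_trace l hlk hg, trD_eq_trace l hlk hg, RingHom.map_mul, RingHom.map_mul, LinearMap.trace_mul_comm]

/-- The trace as an additive map. -/
def trHom : EndAV.End A →+ ℚ := AddMonoidHom.mk' trD fun φ ψ => (trD_add_and_comm φ ψ).1

theorem trD_comm (φ ψ : EndAV.End A) : trD (φ * ψ) = trD (ψ * φ) := (trD_add_and_comm φ ψ).2

theorem trD_sub (φ ψ : EndAV.End A) : trD (φ - ψ) = trD φ - trD ψ := map_sub trHom φ ψ

theorem trD_zsmul (n : ℤ) (φ : EndAV.End A) : trD ((n : EndAV.End A) * φ) = n * trD φ := by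
  rw [← zsmul_eq_mul, show trD (n • φ) = n • trD φ from map_zsmul trHom n φ, zsmul_eq_mul]

theorem trD_nsmul (n : ℕ) (φ : EndAV.End A) : trD ((n : EndAV.End A) * φ) = n * trD φ := by
  simpa using trD_zsmul (n : ℤ) φ

theorem trD_sum {J : Type*} (t : Finset J) (f : J → EndAV.End A) : trD (∑ i ∈ t, f i) = ∑ i ∈ t, trD (f i) :=
  map_sum trHom f t

/-- Pullback of a translation class along `n α`. -/
theorem pull_natCast_mul (hL : PicF.IsInvertible L) (x : pt₀ ⟶ A) (α : EndAV.End A) : ∀ n : ℕ,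
    Units.map (PicMul.pullHom ((n : EndAV.End A) * α).toHom.left : PicF.Cl A.left →* PicF.Cl A.left) (delta hL x) =
      Units.map (PicMul.pullHom α.toHom.left : PicF.Cl A.left →* PicF.Cl A.left) (delta hL x) ^ n
  | 0 => by rw [Nat.cast_zero, zero_mul, EndAV.End.toHom_zero, pull_delta_one, pow_zero]
  | n + 1 => by
    rw [Nat.cast_succ, add_mul, _root_.one_mul, EndAV.End.toHom_add, pull_delta_mul, pull_natCast_mul hL x α n,
      pow_succ]

theorem iso_iff (hL : PicF.IsInvertible L) (α ρ : EndAV.End A) (n : ℕ) (x : pt₀ ⟶ A) :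
    Nonempty (CohB1.tensorMod ((Scheme.Modules.pullback ((𝟙 A * (toUnit A ≫ x ≫ EndAV.End.toHom ρ))).left).obj L)
        ((Scheme.Modules.pullback (EndAV.End.toHom α).left).obj (CohB1.tensorPow L n)) ≅
      CohB1.tensorMod L ((Scheme.Modules.pullback (EndAV.End.toHom α).left).obj
        ((Scheme.Modules.pullback ((𝟙 A * (toUnit A ≫ x))).left).obj (CohB1.tensorPow L n)))) ↔
      delta hL (x ≫ ρ.toHom) =
        Units.map (PicMul.pullHom α.toHom.left : PicF.Cl A.left →* PicF.Cl A.left) (delta hL x) ^ n := by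
  have e : ∀ a : pt₀ ⟶ A, delta hL a = pc hL (CubeAb.tr a) / ucl hL :=
    fun a => by rw [delta, show pc hL (𝟙 A) = ucl hL from Units.ext (by rw [val_ucl, val_pc_id])]
  rw [e, e, map_div, div_pow, div_eq_div_iff_mul_eq_mul, ← Units.val_inj, ← PicMul.cl_eq_iff]
  have h1 : PicF.cl (CohB1.tensorMod ((Scheme.Modules.pullback ((𝟙 A * (toUnit A ≫ x ≫ EndAV.End.toHom ρ))).left).obj L)
        ((Scheme.Modules.pullback (EndAV.End.toHom α).left).obj (CohB1.tensorPow L n))) =
      ((pc hL (CubeAb.tr (x ≫ ρ.toHom)) *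
        Units.map (PicMul.pullHom α.toHom.left : PicF.Cl A.left →* PicF.Cl A.left) (ucl hL) ^ n :
          (PicF.Cl A.left)ˣ) : PicF.Cl A.left) := by
    rw [PicMul.cl_tensor, Units.val_mul, Units.val_pow_eq_pow_val]
    show _ * PicMul.pullHom α.toHom.left (PicF.cl (CohB1.tensorPow L n)) = _
    rw [PicMul.cl_tensorPow, map_pow]
    rfl
  have h2 : PicF.cl (CohB1.tensorMod L ((Scheme.Modules.pullback (EndAV.End.toHom α).left).obj
        ((Scheme.Modules.pullback ((𝟙 A * (toUnit A ≫ x))).left).obj (CohB1.tensorPow L n)))) =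
      ((Units.map (PicMul.pullHom α.toHom.left : PicF.Cl A.left →* PicF.Cl A.left) (pc hL (CubeAb.tr x)) ^ n *
        ucl hL : (PicF.Cl A.left)ˣ) : PicF.Cl A.left) := by
    rw [PicMul.cl_tensor, Units.val_mul, Units.val_pow_eq_pow_val, val_ucl, mul_comm]
    show PicMul.pullHom α.toHom.left (PicMul.pullHom (CubeAb.tr x).left (PicF.cl (CohB1.tensorPow L n))) * _ = _
    rw [PicMul.cl_tensorPow, map_pow, map_pow]
    rfl
  rw [h1, h2]

theorem adj_of_iso {hL : PicF.IsInvertible L} {α ρ : EndAV.End A} {n : ℕ}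
    (h : ∀ x : pt₀ ⟶ A, Nonempty (CohB1.tensorMod
        ((Scheme.Modules.pullback ((𝟙 A * (toUnit A ≫ x ≫ EndAV.End.toHom ρ))).left).obj L)
        ((Scheme.Modules.pullback (EndAV.End.toHom α).left).obj (CohB1.tensorPow L n)) ≅
      CohB1.tensorMod L ((Scheme.Modules.pullback (EndAV.End.toHom α).left).obj
        ((Scheme.Modules.pullback ((𝟙 A * (toUnit A ≫ x))).left).obj (CohB1.tensorPow L n))))) :
    Adj hL ((n : EndAV.End A) * α) ρ := fun x => by
  rw [pull_natCast_mul, (iso_iff hL α ρ n x).1 (h x)]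

/-- The symmetry condition of the statements. -/
theorem adj_of_sym {hL : PicF.IsInvertible L} {α : EndAV.End A}
    (h : ∀ x : pt₀ ⟶ A, Nonempty (CohB1.tensorMod
        ((Scheme.Modules.pullback ((𝟙 A * (toUnit A ≫ x ≫ EndAV.End.toHom α))).left).obj L)
        ((Scheme.Modules.pullback (EndAV.End.toHom α).left).obj L) ≅
      CohB1.tensorMod L ((Scheme.Modules.pullback (EndAV.End.toHom α).left).obj
        ((Scheme.Modules.pullback ((𝟙 A * (toUnit A ≫ x))).left).obj L)))) : Adj hL α α := fun x => by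
  have e : ∀ a : pt₀ ⟶ A, delta hL a = pc hL (CubeAb.tr a) / ucl hL :=
    fun a => by rw [delta, show pc hL (𝟙 A) = ucl hL from Units.ext (by rw [val_ucl, val_pc_id])]
  have h1 := PicMul.cl_eq_iff.2 (h x)
  rw [PicMul.cl_tensor, PicMul.cl_tensor, mul_comm (PicF.cl L)] at h1
  rw [e, e, map_div, div_eq_div_iff_mul_eq_mul]
  exact Units.ext h1.symm

/-- **`tr (Y X) > 0`** for non-zero `X` with adjoint `Y`. -/
theorem trD_adj_mul_pos (hL : CohB1.IsAmple L) {X Y : EndAV.End A} (h : Adj hL.1 X Y) (hX : X ≠ 0) :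
    0 < trD (Y * X) := by
  obtain ⟨g, hg⟩ := TorsPtsLib.exists_dim A
  obtain ⟨m, M, s, hm, hM, hs, hs', hpos⟩ := S15662.result k A L hL X Y 1 le_rfl
    (fun x => (iso_iff hL.1 X Y 1 x).2 (by rw [pow_one, h x])) hX
  obtain ⟨P, hPm, hPd, hP⟩ := exists_isShiftPoly hg (Y * X)
  rw [trD_eq_shift hg (one_le_dim hg hL hM s hs hs') hPd hP]
  exact trace_pos hg hL hM s hs hs' hm (corr_of_pos hL.1 hM _ m hpos) hPm hPd hP

theorem trD_adj_mul_nonneg (hL : CohB1.IsAmple L) {X Y : EndAV.End A} (h : Adj hL.1 X Y) : 0 ≤ trD (Y * X) := by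
  by_cases hX : X = 0
  · rw [hX, mul_zero, show trD (0 : EndAV.End A) = 0 from map_zero trHom]
  · exact (trD_adj_mul_pos hL h hX).le

/-- **Positive endomorphisms have non-negative real eigenvalues.** -/
theorem roots_nonneg {g : ℕ} (hg : topologicalKrullDim A.left = g) (hL : CohB1.IsAmple L)
    (hM : PicF.IsInvertible M) (s : Coh.structureModule A.left ⟶ M) (hs : s ≠ 0) {α : EndAV.End A} {m : ℕ}
    (hm : 0 < m) (h : Corr hL.1 hM ((m : EndAV.End A) * α)) {P : Polynomial ℚ} (hPm : P.Monic)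
    (hPd : P.natDegree = 2 * g) (hP : IsDegPoly α P) :
    ∀ w ∈ (P.map (algebraMap ℚ ℂ)).roots, w.im = 0 ∧ 0 ≤ w.re := by
  classical
  obtain ⟨Φ, hΦ⟩ := AVRoots.exists_hilbert hM hL hg
  obtain ⟨hcard, hle⟩ := roots_nonpos hg hL hM s hs hΦ
  obtain ⟨P', hP'm, hP'd, hP'⟩ := exists_isShiftPoly hg ((m : EndAV.End A) * α)
  have hsq := shiftPoly_eq_sq hg hL hM h hΦ hP'
  have e : (m : EndAV.End A) * α = Polynomial.aeval α (Polynomial.C (m : ℤ) * Polynomial.X) := by simp
  have hroots := roots_degPoly_aeval (L := ℂ) hg α _ hPm hPd hP (e ▸ hP'.isDegPoly)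
  intro w hw
  have hne : (P'.comp (-Polynomial.X)).map (algebraMap ℚ ℂ) ≠ 0 := Polynomial.map_ne_zero fun h0 => by
    have := congrArg Polynomial.natDegree h0
    rw [Polynomial.natDegree_comp, hP'd] at this
    simp at this
    rw [this] at hPd
    have := Multiset.card_pos_iff_exists_mem.2 ⟨w, hw⟩
    have h1 := Polynomial.card_roots' (P.map (algebraMap ℚ ℂ))
    rw [Polynomial.natDegree_map, hPd] at h1
    omega
  have hw' : (m : ℂ) * w ∈ ((P'.comp (-Polynomial.X)).map (algebraMap ℚ ℂ)).roots := by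
    rw [hroots]
    exact Multiset.mem_map.2 ⟨w, hw, by simp⟩
  rw [Polynomial.mem_roots hne, Polynomial.IsRoot.def, Polynomial.map_comp, Polynomial.eval_comp,
    Polynomial.map_neg, Polynomial.map_X, Polynomial.eval_neg, Polynomial.eval_X] at hw'
  have h2 := congrArg (fun p => (p.map (algebraMap ℚ ℂ)).eval (-((m : ℂ) * w))) hsq
  simp only [Polynomial.map_mul, Polynomial.map_pow, Polynomial.eval_mul, Polynomial.eval_pow, hw', mul_zero] at h2
  have h3 : -((m : ℂ) * w) ∈ ((AVRoots.rPoly Φ).map (algebraMap ℝ ℂ)).roots := by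
    rw [Polynomial.mem_roots (Polynomial.map_ne_zero (AVRoots.rPoly_ne_zero (AVRoots.ne_zero hM hL hg hΦ))),
      Polynomial.IsRoot.def, AVRoots.rPoly, Polynomial.map_map, ← IsScalarTower.algebraMap_eq]
    exact pow_eq_zero_iff two_ne_zero |>.1 h2.symm
  have hsp : (AVRoots.rPoly Φ).Splits := by
    rw [Polynomial.splits_iff_card_roots]
    exact le_antisymm (Polynomial.card_roots' _) (hcard ▸ Polynomial.natDegree_map_le.trans
      (AVRoots.natDegree_le hM hL hg hΦ))
  rw [hsp.roots_map] at h3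
  obtain ⟨t, ht, hte⟩ := Multiset.mem_map.1 h3
  have hwt : w = ((-t / (m : ℝ) : ℝ) : ℂ) := by
    have hm' : (m : ℂ) ≠ 0 := by exact_mod_cast hm.ne'
    push_cast
    rw [eq_div_iff hm', show ((t : ℝ) : ℂ) = algebraMap ℝ ℂ t from rfl, hte]
    ring
  rw [hwt]
  exact ⟨Complex.ofReal_im _, by
    rw [Complex.ofReal_re]
    exact div_nonneg (neg_nonneg.2 (hle t ht)) (Nat.cast_nonneg m)⟩

/-- **A skew endomorphism has trace zero.** -/
theorem trD_skew (hL : CohB1.IsAmple L) {κ : EndAV.End A} (h : Adj hL.1 κ (-κ)) : trD κ = 0 := by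
  by_cases hκ : κ = 0
  · rw [hκ]; exact map_zero trHom
  obtain ⟨g, hg⟩ := TorsPtsLib.exists_dim A
  obtain ⟨m, M, s, hm, hM, hs, hs', hpos⟩ := S15662.result k A L hL κ (-κ) 1 le_rfl
    (fun x => (iso_iff hL.1 κ (-κ) 1 x).2 (by rw [pow_one, h x])) hκ
  obtain ⟨P, hPm, hPd, hP⟩ := exists_isDegPoly hg κ
  obtain ⟨R, hRm, hRd, hR⟩ := exists_isDegPoly hg (-κ * κ)
  have hpn := roots_nonneg hg hL hM s hs hm (corr_of_pos hL.1 hM _ m hpos) hRm hRd hR
  have e : -κ * κ = Polynomial.aeval κ (-(Polynomial.X ^ 2 : Polynomial ℤ)) := by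
    rw [map_neg, map_pow, Polynomial.aeval_X, neg_mul, pow_two]
  rw [roots_degPoly_aeval (L := ℂ) hg κ _ hPm hPd hP (e ▸ hR)] at hpn
  have hre : ∀ w ∈ (P.map (algebraMap ℚ ℂ)).roots, w.re = 0 := fun w hw => by
    obtain ⟨hi, hr⟩ := hpn _ (Multiset.mem_map.2 ⟨w, hw, rfl⟩)
    simp only [map_neg, map_mul, Polynomial.aeval_X, Complex.neg_im, Complex.neg_re, pow_two, Complex.mul_im,
      Complex.mul_re] at hi hr
    rcases mul_eq_zero.1 (show w.re * w.im = 0 by linarith) with h0 | h0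
    · exact h0
    · rw [h0] at hr; nlinarith [sq_nonneg w.re]
  have h1 := trD_eq_sum_roots hg hPm hP
  have h2 : ((P.map (algebraMap ℚ ℂ)).roots.sum).re = 0 := by
    rw [show ((P.map (algebraMap ℚ ℂ)).roots.sum).re = ((P.map (algebraMap ℚ ℂ)).roots.map Complex.reAddGroupHom).sum
      from map_multiset_sum Complex.reAddGroupHom _]
    exact Multiset.sum_eq_zero fun x hx => by
      obtain ⟨w, hw, rfl⟩ := Multiset.mem_map.1 hx
      exact hre w hw
  rw [← h1] at h2
  exact_mod_cast h2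

end Groth.Agent.AVTrace
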