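import Groth.Agent.AVTrace.Degree
import Groth.Agent.AVRoots.Stab
import Groth.Agent.AVCharpoly.Apply
import Groth.Agent.S12003
import Groth.Agent.S7805
import Groth.Agent.AVIndex.Field
import Mathlib.Analysis.Complex.Polynomial.Basic

/-!
# Positivity of the trace

If `M` corresponds to `β` and has a non-zero section, all roots of `n ↦ χ (M ⊗ L^n)` are real and non-positive, so
that `deg (β + X)` has non-negative coefficients; if the section is not an isomorphism the trace is positive.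
-/

noncomputable section

set_option autoImplicit false
set_option linter.style.haveILetI false
set_option linter.unusedSectionVars false
set_option backward.isDefEq.respectTransparency false
set_option backward.isDefEq.respectTransparency.types false
set_option maxHeartbeats 1000000

universe u

open CategoryTheory CategoryTheory.Limits MonoidalCategory CartesianMonoidalCategory MonObj AlgebraicGeometry TopologicalSpace

namespace Groth.Agent.AVTrace

open Groth.Agent Groth.Agent.H23 Groth.Agent.H23.TrivBasic Groth.Agent.AVCube Groth.Agent.AVPair Groth.Agent.AVTheta8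
open Groth.Agent.VolLib Groth.Agent.AVCharpoly Groth.Agent.InvX
open scoped Groth.Agent.H23.PicMul

variable {k : Type u} [Field k] [IsAlgClosed k] {A : Over (Spec (CommRingCat.of k))} [GrpObj A] [IsCommMonObj A]
  [IsProper A.hom] [GeometricallyIntegral A.hom] {L M : A.left.Modules}

local notation "pt₀" => 𝟙_ (Over (Spec (CommRingCat.of k)))

/-- `P (j) = deg (β + j)`. -/
def IsShiftPoly (β : EndAV.End A) (P : Polynomial ℚ) : Prop :=
  ∀ j : ℤ, degQ (β + (j : EndAV.End A)).toHom = P.eval (j : ℚ)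

theorem isShiftPoly_of_rat {β : EndAV.End A} {P : Polynomial ℚ}
    (hP : ∀ j : ℤ, (IsFinite (EndAV.End.toHom (β + (j : EndAV.End A))).left →
        ∀ a : A.left, (Scheme.Hom.finrank (EndAV.End.toHom (β + (j : EndAV.End A))).left a : ℚ) = P.eval (j : ℚ)) ∧
      (¬ IsFinite (EndAV.End.toHom (β + (j : EndAV.End A))).left → P.eval (j : ℚ) = 0)) : IsShiftPoly β P :=
  fun j => degQ_eq (hP j).1 (hP j).2

theorem IsShiftPoly.isDegPoly {β : EndAV.End A} {P : Polynomial ℚ} (hP : IsShiftPoly β P) :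
    IsDegPoly β (P.comp (-Polynomial.X)) := fun n => by
  rw [show β - (n : EndAV.End A) = β + ((-n : ℤ) : EndAV.End A) by rw [Int.cast_neg, sub_eq_add_neg], hP]
  simp

theorem exists_isShiftPoly {g : ℕ} (hg : topologicalKrullDim A.left = g) (β : EndAV.End A) :
    ∃ P : Polynomial ℚ, P.Monic ∧ P.natDegree = 2 * g ∧ IsShiftPoly β P := by
  obtain ⟨P, hPm, hPd, hP⟩ := exists_isDegPoly hg β
  refine ⟨P.comp (-Polynomial.X), ?_, ?_, fun j => ?_⟩
  · rw [Polynomial.Monic, Polynomial.leadingCoeff_comp (by simp), hPm, hPd]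
    simp [pow_mul]
  · rw [Polynomial.natDegree_comp, hPd]; simp
  · rw [show β + (j : EndAV.End A) = β - ((-j : ℤ) : EndAV.End A) by rw [Int.cast_neg, sub_neg_eq_add], hP]
    simp

/-- `χ(L) ≠ 0` for ample `L`. -/
theorem chi_ne_zero (hL : CohB1.IsAmple L) : (chi L : ℚ) ≠ 0 := by
  have hc := AVRoots.conc_of_isAmple hL
  exact Int.cast_ne_zero.2 (AVIndex.euler_ne_zero hL.1 (AVIndex.finite_fixSet_of_concentrated hL.1 hc.1 hc.2))

/-- **The degree polynomial of a symmetric endomorphism is a square.** -/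
theorem shiftPoly_eq_sq {g : ℕ} (hg : topologicalKrullDim A.left = g) (hL : CohB1.IsAmple L)
    (hM : PicF.IsInvertible M) {β : EndAV.End A} (h : Corr hL.1 hM β) {Φ : Polynomial ℚ}
    (hΦ : ∀ n : ℕ, Φ.eval (n : ℚ) = (chi (CohB1.tensorMod M (CohB1.tensorPow L n)) : ℚ)) {P : Polynomial ℚ}
    (hP : IsShiftPoly β P) : Polynomial.C ((chi L : ℚ) ^ 2) * P = Φ ^ 2 := by
  refine Polynomial.eq_of_infinite_eval_eq _ _ ((Set.infinite_range_of_injective
    (Int.cast_injective (α := ℚ))).mono ?_)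
  rintro _ ⟨j, rfl⟩
  show Polynomial.eval (j : ℚ) _ = Polynomial.eval (j : ℚ) _
  rw [Polynomial.eval_mul, Polynomial.eval_C, Polynomial.eval_pow, ← hP j, ← degQ_add_sq hg hL hM h hΦ j]
  ring

theorem isIso_of_triv {M : A.left.Modules} (ht : Triv M) (s : Coh.structureModule A.left ⟶ M) (hs : s ≠ 0) :
    IsIso s := by
  haveI : IsIntegral A.left := GeometricallyIntegral.isIntegral_of_subsingleton A.hom
  obtain ⟨e⟩ := ht
  let u := s ≫ e.hom
  have hu : u ≠ 0 := fun h0 => hs ((cancel_mono e.hom).1 (h0.trans zero_comp.symm))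
  have hf : IsField Γ(A.left, ⊤) := isField_of_universallyClosed k A.hom
  let fn : (Coh.structureModule A.left ⟶ Coh.structureModule A.left) → Γ(A.left, ⊤) := fun a => one a
  have hne : fn u ≠ 0 := fun h => hu (AmpleX.eq_zero_of_one_eq_zero u h)
  obtain ⟨w, hw⟩ := hf.mul_inv_cancel hne
  have hmul : ∀ a b : Coh.structureModule A.left ⟶ Coh.structureModule A.left, fn (a ≫ b) = fn a * fn b := fun a b => by
    let t : Γ(Coh.structureModule A.left, ⊤) := (1 : Γ(A.left, ⊤))
    have h : one (a ≫ b) = b.app ⊤ (fn a • t) :=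
      congrArg (b.app ⊤) (show (one a : Γ(Coh.structureModule A.left, ⊤)) = fn a • t from
        (_root_.mul_one (fn a)).symm)
    rw [Scheme.Modules.Hom.app_smul] at h
    exact h
  have hid : ∀ a : Coh.structureModule A.left ⟶ Coh.structureModule A.left, fn a = 1 → a = 𝟙 _ := fun a ha =>
    sub_eq_zero.1 (AmpleX.eq_zero_of_one_eq_zero _ (sub_eq_zero.2 ha))
  let v : Coh.structureModule A.left ⟶ Coh.structureModule A.left :=
    ofSect (show Γ(Coh.structureModule A.left, ⊤) from w)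
  have hv : fn v = w := one_ofSect _
  haveI : IsIso u := ⟨v, hid _ (by rw [hmul, hv]; exact hw), hid _ (by rw [hmul, hv, mul_comm]; exact hw)⟩
  exact IsIso.of_isIso_comp_right s e.hom

/-- `M^a ⊗ L^b` has a non-zero section for suitable multiples. -/
theorem exists_section_P (hL : CohB1.IsAmple L) (hM : PicF.IsInvertible M) (s : Coh.structureModule A.left ⟶ M)
    (hs : s ≠ 0) : ∃ d : ℕ, 0 < d ∧ ∀ a b : ℕ, 0 < a → 0 < b →
      ∃ t : Coh.structureModule A.left ⟶ AVRoots.P hM hL ((d * a : ℕ) : ℤ) ((d * b : ℕ) : ℤ), t ≠ 0 := by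
  haveI : IsIntegral A.left := GeometricallyIntegral.isIntegral_of_subsingleton A.hom
  obtain ⟨x⟩ : Nonempty A.left := inferInstance
  obtain ⟨n, σ, hσ, -⟩ := hL.2.2 x
  have hMs : (CohB1.genLocus M (ofSect (one s)) : Set A.left).Nonempty :=
    (Opens.ne_bot_iff_nonempty _).1 (locus_ne_bot hM fun h => hs (AmpleX.eq_zero_of_one_eq_zero s h))
  have hMs' : (CohB1.genLocus M s : Set A.left).Nonempty := by
    rw [← AVAmple.ofSect_one s]; exact hMs
  refine ⟨n + 1, Nat.succ_pos n, fun a b ha hb => ?_⟩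
  obtain ⟨a', ha'⟩ : ∃ a', (n + 1) * a = a' + 1 :=
    Nat.exists_eq_add_one.2 (Nat.mul_pos n.succ_pos ha)
  obtain ⟨b', rfl⟩ : ∃ b', b = b' + 1 := Nat.exists_eq_add_one.2 hb
  have hLn := InvX.isInvertible_tensorPow hL.1 (n + 1)
  let t := mulHom (powHom s (a' + 1)) (powHom σ (b' + 1))
  have ht : (CohB1.genLocus _ t : Set A.left).Nonempty := by
    rw [genLocus_mulHom (InvX.isInvertible_tensorPow hM _) (InvX.isInvertible_tensorPow hLn _),
      genLocus_powHom hM, genLocus_powHom hLn]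
    exact nonempty_preirreducible_inter (CohB1.genLocus M s).isOpen (CohB1.genLocus _ σ).isOpen hMs' ⟨x, hσ⟩
  obtain ⟨e⟩ : Nonempty (CohB1.tensorMod (CohB1.tensorPow M (a' + 1))
      (CohB1.tensorPow (CohB1.tensorPow L (n + 1)) (b' + 1)) ≅
        AVRoots.P hM hL (((n + 1) * a : ℕ) : ℤ) (((n + 1) * (b' + 1) : ℕ) : ℤ)) := by
    refine PicMul.cl_eq_iff.1 ?_
    rw [AVRoots.cl_P, PicMul.cl_tensor, PicMul.cl_tensorPow, PicMul.cl_tensorPow (CohB1.tensorPow L (n + 1)),
      PicMul.cl_tensorPow, ← pow_mul, zpow_natCast, zpow_natCast, Units.val_mul, Units.val_pow_eq_pow_val,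
      Units.val_pow_eq_pow_val, val_ucl, val_ucl, ha']
  refine ⟨t ≫ e.hom, fun h0 => ?_⟩
  rw [← genLocus_comp_iso t e, h0] at ht
  obtain ⟨y, hy⟩ := ht
  exact S1664zero hy
where
  S1664zero {X : Scheme.{u}} {N : X.Modules} {y : X}
      (hy : y ∈ CohB1.genLocus N (0 : Coh.structureModule X ⟶ N)) : False := by
    obtain ⟨U, hyU, hU⟩ := InvX.mem_genLocus hy
    have h10 : (1 : Γ(X, U)) = 0 := hU.coord_unique le_rfl (by
      rw [show InvX.one (0 : Coh.structureModule X ⟶ N) = 0 from rfl, map_zero, map_zero, smul_zero, smul_zero])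
    have : y ∈ X.basicOpen (1 : Γ(X, U)) := by rw [X.basicOpen_of_isUnit isUnit_one]; exact hyU
    rw [h10, Scheme.basicOpen_zero] at this
    exact this

/-- **All roots are real and non-positive.** -/
theorem roots_nonpos {g : ℕ} (hg : topologicalKrullDim A.left = g) (hL : CohB1.IsAmple L)
    (hM : PicF.IsInvertible M) (s : Coh.structureModule A.left ⟶ M) (hs : s ≠ 0) {Φ : Polynomial ℚ}
    (hΦ : ∀ n : ℕ, Φ.eval (n : ℚ) = (chi (CohB1.tensorMod M (CohB1.tensorPow L n)) : ℚ)) :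
    Multiset.card (AVRoots.rPoly Φ).roots = g ∧ ∀ t ∈ (AVRoots.rPoly Φ).roots, t ≤ 0 := by
  classical
  obtain ⟨d, hd, hsec⟩ := exists_section_P hL hM s hs
  have hΦ0 := AVRoots.ne_zero hM hL hg hΦ
  obtain ⟨n, hn, hroot, -, -, hnn, hinn⟩ := AVRoots.exists_endpoints hM hL hg hΦ
  have hidx : ∀ x : ℚ, 0 < x → Φ.eval x ≠ 0 → AVRoots.idx hM hL x = 0 := by
    intro x hx hxe
    obtain ⟨p, hp⟩ := Int.eq_ofNat_of_zero_le (Rat.num_nonneg.2 hx.le)
    have hp0 : 0 < p := by
      have := Rat.num_pos.2 hx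
      omega
    have hq : 0 < d * x.den := Nat.mul_pos hd x.den_pos
    have hpq : (((d * p : ℕ) : ℤ) : ℚ) / (d * x.den : ℕ) = x := by
      push_cast
      rw [mul_div_mul_left _ _ (by exact_mod_cast hd.ne'), ← Int.cast_natCast p,
        show ((p : ℕ) : ℤ) = x.num from hp.symm]
      exact Rat.num_div_den x
    obtain ⟨hc, -⟩ := AVRoots.conc_idx hM hL hg hΦ hxe hq hpq
    obtain ⟨t, ht⟩ := hsec x.den p x.den_pos hp0
    have hPi := AVRoots.isInvertible_P hM hL ((d * x.den : ℕ) : ℤ) ((d * p : ℕ) : ℤ)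
    have hamp : CohB1.IsAmple (AVRoots.P hM hL ((d * x.den : ℕ) : ℤ) ((d * p : ℕ) : ℤ)) :=
      S12003.result k A _ hPi t ht ((AVIndex.finite_fixSet_of_concentrated hPi hc.1 hc.2).subset fun a ha =>
        (PicMul.cl_eq_iff).2 ha)
    exact hc.unique (AVRoots.conc_of_isAmple hamp)
  have hle : ∀ ε : ℝ, 0 < ε → g ≤ AVRoots.nRoots Φ (-(n : ℚ) : ℚ) ε := by
    intro ε hε
    obtain ⟨b, hb0, hbε, hb⟩ := AVRoots.exists_nonroot hΦ0 hε
    have hb0' : 0 < b := by exact_mod_cast hb0
    have h1 := AVRoots.idx_le_add_nRoots hM hL hg hΦ hΦ0 hnn hb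
      (by have : (0 : ℚ) < n := by exact_mod_cast hn
          linarith)
    rw [hinn, hidx b hb0' hb, Nat.zero_add] at h1
    exact h1.trans (AVRoots.nRoots_mono Φ hbε.le)
  have hdeg : Multiset.card (AVRoots.rPoly Φ).roots ≤ g :=
    (Polynomial.card_roots' _).trans (Polynomial.natDegree_map_le.trans (AVRoots.natDegree_le hM hL hg hΦ))
  refine ⟨le_antisymm hdeg ((hle 1 one_pos).trans (Multiset.card_le_card (Multiset.filter_le _ _))), fun t ht => ?_⟩
  by_contra htp
  rw [not_le] at htp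
  have h1 := hle t htp
  have h2 : AVRoots.nRoots Φ (-(n : ℚ) : ℚ) t < Multiset.card (AVRoots.rPoly Φ).roots := by
    refine Multiset.card_lt_card (lt_of_le_of_ne (Multiset.filter_le _ _) fun h => ?_)
    rw [← h, Multiset.mem_filter] at ht
    exact lt_irrefl t ht.2.2
  omega

/-- **A non-trivial effective module is not translation invariant.** -/
theorem rootMultiplicity_lt {g : ℕ} (hg : topologicalKrullDim A.left = g) (hL : CohB1.IsAmple L)
    (hM : PicF.IsInvertible M) (s : Coh.structureModule A.left ⟶ M) (hs : s ≠ 0) (hs' : ¬ IsIso s) {Φ : Polynomial ℚ}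
    (hΦ : ∀ n : ℕ, Φ.eval (n : ℚ) = (chi (CohB1.tensorMod M (CohB1.tensorPow L n)) : ℚ)) :
    Φ.rootMultiplicity 0 < g := by
  haveI : IsIntegral A.left := GeometricallyIntegral.isIntegral_of_subsingleton A.hom
  haveI : JacobsonSpace A.left := LocallyOfFiniteType.jacobsonSpace A.hom
  obtain ⟨S, hS, hSs⟩ := exists_closed_stab hM
  have hdim := AVRoots.dim_stab_eq hM hL hg hΦ hS hSs
  have hne : S ≠ Set.univ := by
    rintro rfl
    have hinv : ∀ a : pt₀ ⟶ A, CubeAb.F (PicF.cl M) (CubeAb.tr a) = PicF.cl M := fun a =>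
      (delta_eq_one hM a).1 ((hSs a).1 (Set.mem_univ _))
    have hadd : CubeAb.IsAdditive (PicF.cl M) := CubeAb.isAdditive_of_invariant ⟨M, rfl, hM⟩ hinv
    by_cases ht : Triv M
    · exact hs' (isIso_of_triv ht s hs)
    · exact hs (hom_unit_eq_zero hM hadd ht s)
  by_contra hge
  rw [not_lt] at hge
  have h1 := H23.TopDim.dim_lt_of_ssubset
    (by rw [hg, ← WithBot.coe_natCast]; exact fun h => ENat.coe_ne_top g (WithBot.coe_injective h)) hS hne
  rw [hdim, hg, Nat.cast_lt] at h1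
  omega

theorem trace_pos_of_corr {g : ℕ} (hg : topologicalKrullDim A.left = g) (hL : CohB1.IsAmple L)
    (hM : PicF.IsInvertible M) (s : Coh.structureModule A.left ⟶ M) (hs : s ≠ 0) (hs' : ¬ IsIso s)
    {β : EndAV.End A} (h : Corr hL.1 hM β) {P : Polynomial ℚ} (hPm : P.Monic) (hPd : P.natDegree = 2 * g)
    (hP : IsShiftPoly β P) : 0 < P.coeff (2 * g - 1) := by
  classical
  obtain ⟨Φ, hΦ⟩ := AVRoots.exists_hilbert hM hL hg
  obtain ⟨hcard, hle⟩ := roots_nonpos hg hL hM s hs hΦ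
  have hlt := rootMultiplicity_lt hg hL hM s hs hs' hΦ
  have hΦ0 := AVRoots.rPoly_ne_zero (AVRoots.ne_zero hM hL hg hΦ)
  have hc : ((chi L : ℚ) : ℝ) ^ 2 ≠ 0 := pow_ne_zero 2 (Rat.cast_ne_zero.2 (chi_ne_zero hL))
  have hR : Polynomial.C (((chi L : ℚ) : ℝ) ^ 2) * P.map (algebraMap ℚ ℝ) = AVRoots.rPoly Φ ^ 2 := by
    have h1 := congrArg (Polynomial.map (algebraMap ℚ ℝ)) (shiftPoly_eq_sq hg hL hM h hΦ hP)
    rw [Polynomial.map_mul, Polynomial.map_C, Polynomial.map_pow, map_pow, eq_ratCast] at h1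
    exact h1
  have hroots : (P.map (algebraMap ℚ ℝ)).roots = (AVRoots.rPoly Φ).roots + (AVRoots.rPoly Φ).roots := by
    rw [← Polynomial.roots_C_mul _ hc, hR, pow_two, Polynomial.roots_mul (mul_ne_zero hΦ0 hΦ0)]
  have hsp : (P.map (algebraMap ℚ ℝ)).Splits := by
    rw [Polynomial.splits_iff_card_roots, hroots, Multiset.card_add, hcard, Polynomial.natDegree_map, hPd]
    omega
  have hnext : (P.map (algebraMap ℚ ℝ)).nextCoeff = ((P.coeff (2 * g - 1) : ℚ) : ℝ) := by
    rw [Polynomial.nextCoeff_of_natDegree_pos (by rw [Polynomial.natDegree_map, hPd]; omega),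
      Polynomial.natDegree_map, hPd, Polynomial.coeff_map, eq_ratCast]
  rw [hsp.nextCoeff_eq_neg_sum_roots_of_monic (hPm.map _), hroots, Multiset.sum_add] at hnext
  suffices (AVRoots.rPoly Φ).roots.sum < 0 by
    have h0 : (0 : ℝ) < ((P.coeff (2 * g - 1) : ℚ) : ℝ) := by rw [← hnext]; linarith
    exact_mod_cast h0
  obtain ⟨t, ht, ht0⟩ : ∃ t ∈ (AVRoots.rPoly Φ).roots, t ≠ 0 := by
    by_contra hall
    push Not at hall
    have h1 : Multiset.count 0 (AVRoots.rPoly Φ).roots = g := hcard ▸ Multiset.count_eq_card.2 fun x hx => (hall x hx).symm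
    rw [Polynomial.count_roots, AVRoots.rPoly, ← map_zero (algebraMap ℚ ℝ),
      ← Polynomial.eq_rootMultiplicity_map (algebraMap ℚ ℝ).injective] at h1
    omega
  rw [← Multiset.cons_erase ht, Multiset.sum_cons]
  have h1 : ((AVRoots.rPoly Φ).roots.erase t).sum ≤ 0 := by
    have := Multiset.sum_le_card_nsmul ((AVRoots.rPoly Φ).roots.erase t) 0
      fun x hx => hle x (Multiset.mem_of_mem_erase hx)
    simpa using this
  linarith [lt_of_le_of_ne (hle t ht) ht0]

/-- Scaling. -/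
theorem trace_scale {g : ℕ} (hg0 : 1 ≤ g) {m : ℕ} (hm : 0 < m) {α : EndAV.End A} {P P' : Polynomial ℚ} (hPm : P.Monic)
    (hPd : P.natDegree = 2 * g) (hP : IsShiftPoly α P) (hP'm : P'.Monic) (hP'd : P'.natDegree = 2 * g)
    (hP' : IsShiftPoly ((m : EndAV.End A) * α) P') : P'.coeff (2 * g - 1) = m * P.coeff (2 * g - 1) := by
  let c : ℚ := degQ (m : EndAV.End A).toHom
  have he : P'.comp (Polynomial.C (m : ℚ) * Polynomial.X) = Polynomial.C c * P := by
    refine Polynomial.eq_of_infinite_eval_eq _ _ ((Set.infinite_range_of_injective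
      (Int.cast_injective (α := ℚ))).mono ?_)
    rintro _ ⟨j, rfl⟩
    show Polynomial.eval (j : ℚ) _ = Polynomial.eval (j : ℚ) _
    rw [Polynomial.eval_comp, Polynomial.eval_mul, Polynomial.eval_mul, Polynomial.eval_C, Polynomial.eval_C,
      Polynomial.eval_X, show (m : ℚ) * (j : ℚ) = (((m : ℤ) * j : ℤ) : ℚ) by push_cast; ring, ← hP', ← hP j]
    rw [show (m : EndAV.End A) * α + (((m : ℤ) * j : ℤ) : EndAV.End A) =
      (m : EndAV.End A) * (α + (j : EndAV.End A)) by rw [Int.cast_mul, Int.cast_natCast, mul_add],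
      EndAV.End.toHom_mul, degQ_comp]
  have hcomp : ∀ i, (P'.comp (Polynomial.C (m : ℚ) * Polynomial.X)).coeff i = P'.coeff i * (m : ℚ) ^ i := fun i =>
    Polynomial.comp_C_mul_X_coeff
  have htop := congrArg (fun p : Polynomial ℚ => p.coeff (2 * g)) he
  simp only [hcomp, Polynomial.coeff_C_mul] at htop
  rw [show P'.coeff (2 * g) = 1 by rw [← hP'd]; exact hP'm, show P.coeff (2 * g) = 1 by rw [← hPd]; exact hPm,
    _root_.one_mul, _root_.mul_one] at htop
  have hn := congrArg (fun p : Polynomial ℚ => p.coeff (2 * g - 1)) he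
  simp only [hcomp, Polynomial.coeff_C_mul, ← htop] at hn
  obtain ⟨r, hr⟩ : ∃ r, 2 * g = r + 1 := ⟨2 * g - 1, by omega⟩
  rw [hr, Nat.add_sub_cancel, pow_succ] at hn
  rw [hr, Nat.add_sub_cancel]
  refine mul_right_cancel₀ (pow_ne_zero r (by exact_mod_cast hm.ne' : (m : ℚ) ≠ 0)) ?_
  linear_combination hn

theorem one_le_dim {g : ℕ} (hg : topologicalKrullDim A.left = g) (hL : CohB1.IsAmple L)
    (hM : PicF.IsInvertible M) (s : Coh.structureModule A.left ⟶ M) (hs : s ≠ 0) (hs' : ¬ IsIso s) : 1 ≤ g := by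
  obtain ⟨Φ, hΦ⟩ := AVRoots.exists_hilbert hM hL hg
  have := rootMultiplicity_lt hg hL hM s hs hs' hΦ
  omega

/-- **The trace of a positive endomorphism is positive.** -/
theorem trace_pos {g : ℕ} (hg : topologicalKrullDim A.left = g) (hL : CohB1.IsAmple L)
    (hM : PicF.IsInvertible M) (s : Coh.structureModule A.left ⟶ M) (hs : s ≠ 0) (hs' : ¬ IsIso s)
    {α : EndAV.End A} {m : ℕ} (hm : 0 < m) (h : Corr hL.1 hM ((m : EndAV.End A) * α)) {P : Polynomial ℚ}
    (hPm : P.Monic) (hPd : P.natDegree = 2 * g) (hP : IsShiftPoly α P) : 0 < P.coeff (2 * g - 1) := by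
  obtain ⟨P', hP'm, hP'd, hP'⟩ := exists_isShiftPoly hg ((m : EndAV.End A) * α)
  have h1 := trace_pos_of_corr hg hL hM s hs hs' h hP'm hP'd hP'
  rw [trace_scale (one_le_dim hg hL hM s hs hs') hm hPm hPd hP hP'm hP'd hP'] at h1
  exact pos_of_mul_pos_right h1 (Nat.cast_nonneg m)

/-- The translation condition of the statements. -/
theorem corr_of_pos (hL : PicF.IsInvertible L) (hM : PicF.IsInvertible M) (α : EndAV.End A) (m : ℕ)
    (hpos : ∀ x : pt₀ ⟶ A, Nonempty (CohB1.tensorMod ((Scheme.Modules.pullback ((𝟙 A * (toUnit A ≫ x))).left).obj M)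
        (CohB1.tensorPow L m) ≅ CohB1.tensorMod M ((Scheme.Modules.pullback
          ((𝟙 A * (toUnit A ≫ x ≫ EndAV.End.toHom α))).left).obj (CohB1.tensorPow L m)))) :
    Corr hL hM ((m : EndAV.End A) * α) := fun x => by
  have hLm := PicMul.isInvertible_tensorPow hL m
  have h1 : pc hM (CubeAb.tr x) * ucl hLm = ucl hM * pc hLm (CubeAb.tr (x ≫ α.toHom)) :=
    Units.ext (by
      rw [Units.val_mul, Units.val_mul, val_ucl, val_ucl]
      exact (PicMul.cl_tensor _ _).symm.trans ((PicMul.cl_eq_iff.2 (hpos x)).trans (PicMul.cl_tensor _ _)))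
  have e : ∀ {N : A.left.Modules} (hN : PicF.IsInvertible N) (a : pt₀ ⟶ A), delta hN a = pc hN (CubeAb.tr a) / ucl hN :=
    fun hN a => by rw [delta, show pc hN (𝟙 A) = ucl hN from Units.ext (by rw [val_ucl, val_pc_id])]
  have h2 : delta hM x = delta hLm (x ≫ α.toHom) := by
    rw [e, e, div_eq_div_iff_mul_eq_mul, h1, mul_comm]
  rw [h2, AVIndex.delta_tensorPow hL, EndAV.End.toHom_mul, ← Category.assoc, EndAV.End.toHom_natCast,
    MonObj.comp_pow, Category.comp_id, delta_pow]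

end Groth.Agent.AVTrace
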