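import Groth.Agent.AVTrace.Linear
import Groth.Agent.H23.PosInvSOS
import Groth.Agent.InvX.GenLocusPull
import Groth.Agent.CurveBC.Coh

/-!
# Positive symmetric endomorphisms are sums of squares
-/

noncomputable section

set_option autoImplicit false
set_option linter.style.haveILetI false
set_option linter.unusedSectionVars false
set_option backward.isDefEq.respectTransparency false
set_option backward.isDefEq.respectTransparency.types false
set_option maxHeartbeats 1000000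
set_option synthInstance.maxHeartbeats 200000

universe u

open CategoryTheory CategoryTheory.Limits MonoidalCategory CartesianMonoidalCategory MonObj AlgebraicGeometry TopologicalSpace

namespace Groth.Agent.AVTrace

open Groth.Agent Groth.Agent.H23 Groth.Agent.H23.TrivBasic Groth.Agent.AVCube Groth.Agent.AVPair Groth.Agent.AVTheta8
open Groth.Agent.VolLib Groth.Agent.AVCharpoly
open scoped Groth.Agent.H23.PicMul TensorProduct

variable {k : Type u} [Field k] [IsAlgClosed k] {A : Over (Spec (CommRingCat.of k))} [GrpObj A] [IsCommMonObj A]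
  [IsProper A.hom] [GeometricallyIntegral A.hom] {L M : A.left.Modules}

local notation "pt₀" => 𝟙_ (Over (Spec (CommRingCat.of k)))

/-- The trace on `End⁰`. -/
def trQ : EndAV.End0 A →ₗ[ℚ] ℚ := LinearMap.liftBaseChange ℚ (trHom (A := A)).toIntLinearMap

theorem trQ_toEnd0 (φ : EndAV.End A) : trQ (EndAV.toEnd0 φ) = trD φ := by
  show LinearMap.liftBaseChange ℚ _ ((1 : ℚ) ⊗ₜ[ℤ] φ) = _
  rw [LinearMap.liftBaseChange_tmul, one_smul]
  rfl

/-- The trace of a polynomial in `φ`. -/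
theorem trD_aeval_eq_sum {g : ℕ} (hg : topologicalKrullDim A.left = g) {φ : EndAV.End A} {P : Polynomial ℚ}
    (hPm : P.Monic) (hPd : P.natDegree = 2 * g) (hP : IsDegPoly φ P) (F : Polynomial ℤ) :
    ((trD (Polynomial.aeval φ F) : ℚ) : ℂ) =
      ((P.map (algebraMap ℚ ℂ)).roots.map fun w => Polynomial.aeval w F).sum := by
  obtain ⟨Q, hQm, hQd, hQ⟩ := exists_isDegPoly hg (Polynomial.aeval φ F)
  rw [trD_eq_sum_roots hg hQm hQ, roots_degPoly_aeval hg φ F hPm hPd hP hQ]

/-- Elements of `ℚ[φ]` have a multiple in `ℤ[φ]`. -/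
theorem exists_mem_QAdj {φ : EndAV.End A} {y : EndAV.End0 A} (hy : y ∈ EndAV.QAdj φ) :
    ∃ (b : ℕ) (G : Polynomial ℤ), 0 < b ∧ (b : ℚ) • y = EndAV.toEnd0 (Polynomial.aeval φ G) := by
  rw [EndAV.QAdj, Algebra.adjoin_singleton_eq_range_aeval] at hy
  obtain ⟨p, rfl⟩ := hy
  obtain ⟨b, hb⟩ := IsLocalization.integerNormalization_map_to_map (nonZeroDivisors ℤ) p
  rcases lt_trichotomy (b : ℤ) 0 with h | h | h
  · refine ⟨(-(b : ℤ)).toNat, -IsLocalization.integerNormalization (nonZeroDivisors ℤ) p, by omega, ?_⟩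
    rw [map_neg, map_neg, toEnd0_aeval, ← algebraMap_int_eq, hb, ← Int.cast_natCast, Int.toNat_of_nonneg (by omega)]
    simp [map_zsmul, ← Int.cast_smul_eq_zsmul ℚ]
  · exact absurd h (nonZeroDivisors.coe_ne_zero b)
  · refine ⟨(b : ℤ).toNat, IsLocalization.integerNormalization (nonZeroDivisors ℤ) p, by omega, ?_⟩
    rw [toEnd0_aeval, ← algebraMap_int_eq, hb, ← Int.cast_natCast, Int.toNat_of_nonneg (by omega)]
    simp [map_zsmul, ← Int.cast_smul_eq_zsmul ℚ]

/-- A symmetric endomorphism with `φ_L β = 0` vanishes. -/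
theorem eq_zero_of_delta (hL : CohB1.IsAmple L) {β : EndAV.End A} (h : Adj hL.1 β β)
    (h1 : ∀ x : pt₀ ⟶ A, delta hL.1 (x ≫ β.toHom) = 1) : β = 0 := by
  by_contra hne
  have h0 : Adj hL.1 β 0 := fun x => by rw [h x, h1, EndAV.End.toHom_zero, MonObj.comp_one, delta_pt_one]
  have := trD_adj_mul_pos hL h0 hne
  rw [zero_mul, show trD (0 : EndAV.End A) = 0 from map_zero trHom] at this
  exact lt_irrefl _ this

theorem not_isIso_of_ne_zero (hL : CohB1.IsAmple L) (hM : PicF.IsInvertible M) (s : Coh.structureModule A.left ⟶ M)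
    {β : EndAV.End A} (h : Corr hL.1 hM β) (hβ : β ≠ 0) : ¬ IsIso s := fun hiso => hβ (eq_zero_of_delta hL h.adj fun x => by
  rw [← h x]
  have hc : PicF.cl M = 1 := by rw [PicMul.one_def]; exact PicMul.cl_eq_iff.2 ⟨(asIso s).symm⟩
  exact (delta_eq_one hM x).2 (by rw [hc]; exact map_one (PicMul.pullHom _)))

theorem pos_of_corr (hL : PicF.IsInvertible L) (hM : PicF.IsInvertible M) (α : EndAV.End A) (m : ℕ)
    (h : Corr hL hM ((m : EndAV.End A) * α)) (x : pt₀ ⟶ A) :
    Nonempty (CohB1.tensorMod ((Scheme.Modules.pullback ((𝟙 A * (toUnit A ≫ x))).left).obj M) (CohB1.tensorPow L m) ≅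
      CohB1.tensorMod M ((Scheme.Modules.pullback
        ((𝟙 A * (toUnit A ≫ x ≫ EndAV.End.toHom α))).left).obj (CohB1.tensorPow L m))) := by
  have hLm := PicMul.isInvertible_tensorPow hL m
  have e : ∀ {N : A.left.Modules} (hN : PicF.IsInvertible N) (a : pt₀ ⟶ A),
      delta hN a = pc hN (CubeAb.tr a) / ucl hN :=
    fun hN a => by rw [delta, show pc hN (𝟙 A) = ucl hN from Units.ext (by rw [val_ucl, val_pc_id])]
  have h2 : delta hM x = delta hLm (x ≫ α.toHom) := by
    rw [h x, AVIndex.delta_tensorPow hL, EndAV.End.toHom_mul, ← Category.assoc, EndAV.End.toHom_natCast,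
      MonObj.comp_pow, Category.comp_id, delta_pow]
  rw [e, e, div_eq_div_iff_mul_eq_mul, mul_comm (pc hLm _)] at h2
  have h3 := congrArg Units.val h2
  rw [Units.val_mul, Units.val_mul, val_ucl, val_ucl] at h3
  refine PicMul.cl_eq_iff.1 ?_
  rw [PicMul.cl_tensor, PicMul.cl_tensor]
  exact h3

/-- A module with a section non-zero at the origin corresponding to `d Σ G_i (α)²`. -/
theorem exists_corr_squares (hL : CohB1.IsAmple L) {α : EndAV.End A} (hα : Adj hL.1 α α) :
    ∃ d : ℕ, 0 < d ∧ ∀ (n : ℕ) (G : Fin n → Polynomial ℤ), ∃ (M : A.left.Modules) (hM : PicF.IsInvertible M)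
      (s : Coh.structureModule A.left ⟶ M), s ≠ 0 ∧
        Corr hL.1 hM ((d : EndAV.End A) * ∑ i, Polynomial.aeval α (G i) * Polynomial.aeval α (G i)) := by
  haveI : IsIntegral A.left := GeometricallyIntegral.isIntegral_of_subsingleton A.hom
  let e : A.left := η[A].left (IsLocalRing.closedPoint k)
  obtain ⟨d₀, σ, hσ, -⟩ := hL.2.2 e
  refine ⟨d₀ + 1, Nat.succ_pos _, fun n => ?_⟩
  suffices key : ∀ G : Fin n → Polynomial ℤ, ∃ (M : A.left.Modules) (hM : PicF.IsInvertible M)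
      (s : Coh.structureModule A.left ⟶ M), e ∈ CohB1.genLocus M s ∧
        Corr hL.1 hM (((d₀ + 1 : ℕ) : EndAV.End A) * ∑ i, Polynomial.aeval α (G i) * Polynomial.aeval α (G i)) by
    intro G
    obtain ⟨M, hM, s, he, hc⟩ := key G
    exact ⟨M, hM, s, fun h0 => exists_section_P.S1664zero (h0 ▸ he), hc⟩
  induction n with
  | zero =>
    intro G
    refine ⟨Coh.structureModule A.left, InvX.isInvertible_structureModule, 𝟙 _, ?_, fun x => ?_⟩
    · exact InvX.le_genLocus (U := ⊤) _ (by rw [AModX.res_self]; exact InvX.isFrame_one ⊤) trivial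
    · rw [Finset.univ_eq_empty, Finset.sum_empty, mul_zero, EndAV.End.toHom_zero, MonObj.comp_one, delta_pt_one]
      refine (delta_eq_one _ x).2 ?_
      rw [show PicF.cl (Coh.structureModule A.left) = 1 from rfl]
      exact map_one (PicMul.pullHom _)
  | succ n ih =>
    intro G
    obtain ⟨M, hM, s, hes, hc⟩ := ih fun i => G i.castSucc
    let ψ := Polynomial.aeval α (G (Fin.last n))
    have hLd := InvX.isInvertible_tensorPow hL.1 (d₀ + 1)
    let N := (Scheme.Modules.pullback ψ.toHom.left).obj (CohB1.tensorPow L (d₀ + 1))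
    have hN : PicF.IsInvertible N := PicClLib.isInvertible_pullback _ hLd
    let t : Coh.structureModule A.left ⟶ N :=
      (CurveBC.unitIso ψ.toHom.left).symm.hom ≫ (Scheme.Modules.pullback ψ.toHom.left).map σ
    have ht : e ∈ CohB1.genLocus N t := by
      rw [show CohB1.genLocus N t = ψ.toHom.left ⁻¹ᵁ CohB1.genLocus _ σ from InvX.genLocus_pullback _ hLd σ _]
      show ψ.toHom.left e ∈ CohB1.genLocus _ σ
      rw [show ψ.toHom.left e = (η[A] ≫ ψ.toHom).left (IsLocalRing.closedPoint k) from rfl, IsMonHom.one_hom]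
      exact hσ
    have hNc : Corr hL.1 hN (((d₀ + 1 : ℕ) : EndAV.End A) * (ψ * ψ)) := fun x => by
      rw [delta_pullback ψ.toHom hLd, AVIndex.delta_tensorPow hL.1, map_pow, hα.aeval (G (Fin.last n)) (x ≫ ψ.toHom),
        EndAV.End.toHom_mul ((d₀ + 1 : ℕ) : EndAV.End A), EndAV.End.toHom_natCast, ← Category.assoc,
        MonObj.comp_pow, Category.comp_id, EndAV.End.toHom_mul, Category.assoc]
      exact (delta_pow hL.1 _ _).symm
    refine ⟨CohB1.tensorMod M N, PicMul.isInvertible_tensor hM hN, InvX.mulHom s t, ?_, fun x => ?_⟩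
    · rw [InvX.genLocus_mulHom hM hN]; exact ⟨hes, ht⟩
    · rw [AVIndex.delta_of_mul hM hN _ (PicMul.cl_tensor M N), hc x, hNc x, ← delta_mul, ← MonObj.comp_mul,
        ← EndAV.End.toHom_add, ← mul_add, Fin.sum_univ_castSucc]

/-- Sums of squares in a commutative finite algebra with a positive functional. -/
theorem exists_sq_sum_comm {R : Type*} [Ring R] [Algebra ℚ R] [Module.Finite ℚ R] (hc : ∀ a b : R, a * b = b * a)
    (σ : R →ₗ[ℚ] ℚ) (hpos : ∀ y : R, y ≠ 0 → 0 < σ (y * y)) {x : R} (hx0 : x ≠ 0)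
    (hnn : ∀ y : R, 0 ≤ σ (y * x * y)) : ∃ (n : ℕ) (y : Fin n → R), x = ∑ i, y i ^ 2 := by
  letI : StarRing R :=
    { star := id
      star_involutive := fun _ => rfl
      star_mul := fun a b => hc a b
      star_add := fun _ _ => rfl }
  haveI : StarModule ℚ R := ⟨fun _ _ => rfl⟩
  obtain ⟨n, y, -, hsum⟩ := H23.PosInv.exists_sq_sum (σ := σ) hpos (x := x) rfl hx0 fun y _ => hnn y
  exact ⟨n, y, hsum⟩

theorem trQ_sq_pos (hL : CohB1.IsAmple L) {α : EndAV.End A} (hsym : Adj hL.1 α α) {y : EndAV.End0 A}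
    (hy : y ∈ EndAV.QAdj α) (hy0 : y ≠ 0) : 0 < trQ (y * y) := by
  obtain ⟨b, G, hb, hG⟩ := exists_mem_QAdj hy
  have hb' : (b : ℚ) ≠ 0 := by exact_mod_cast hb.ne'
  have hne : Polynomial.aeval α G ≠ 0 := fun h0 => hy0 (by
    rw [h0, map_zero] at hG
    have h2 := congrArg (fun v : EndAV.End0 A => (b : ℚ)⁻¹ • v) hG
    simp only [inv_smul_smul₀ hb', smul_zero] at h2
    exact h2)
  have h1 := trD_adj_mul_pos hL (hsym.aeval G) hne
  rw [← trQ_toEnd0, map_mul, ← hG, smul_mul_smul_comm, map_smul, smul_eq_mul] at h1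
  exact pos_of_mul_pos_right h1 (mul_self_nonneg _)

theorem trQ_sandwich_nonneg {g : ℕ} (hg : topologicalKrullDim A.left = g) {α : EndAV.End A} {P : Polynomial ℚ}
    (hPm : P.Monic) (hPd : P.natDegree = 2 * g) (hP : IsDegPoly α P)
    (hroots : ∀ w ∈ (P.map (algebraMap ℚ ℂ)).roots, w.im = 0 ∧ 0 ≤ w.re) {y : EndAV.End0 A}
    (hy : y ∈ EndAV.QAdj α) : 0 ≤ trQ (y * EndAV.toEnd0 α * y) := by
  obtain ⟨b, G, hb, hG⟩ := exists_mem_QAdj hy
  have h0 : (0 : ℚ) ≤ trD (Polynomial.aeval α (G * Polynomial.X * G)) := by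
    have e := trD_aeval_eq_sum hg hPm hPd hP (G * Polynomial.X * G)
    have h1 : 0 ≤ (((trD (Polynomial.aeval α (G * Polynomial.X * G)) : ℚ) : ℂ)).re := by
      rw [e, show ∀ S : Multiset ℂ, S.sum.re = (S.map Complex.reAddGroupHom).sum from
        fun S => map_multiset_sum Complex.reAddGroupHom S]
      refine Multiset.sum_nonneg fun r hr => ?_
      obtain ⟨v, hv, rfl⟩ := Multiset.mem_map.1 hr
      obtain ⟨w, hw, rfl⟩ := Multiset.mem_map.1 hv
      obtain ⟨hwi, hwr⟩ := hroots w hw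
      obtain ⟨t, rfl⟩ : ∃ t : ℝ, (t : ℂ) = w := ⟨w.re, Complex.ext rfl hwi.symm⟩
      rw [Complex.ofReal_re] at hwr
      rw [show Polynomial.aeval (t : ℂ) (G * Polynomial.X * G) =
        algebraMap ℝ ℂ (Polynomial.aeval t (G * Polynomial.X * G)) from
          Polynomial.aeval_algebraMap_apply ℂ t _]
      show 0 ≤ ((Polynomial.aeval t (G * Polynomial.X * G) : ℝ) : ℂ).re
      rw [Complex.ofReal_re, map_mul, map_mul, Polynomial.aeval_X, mul_right_comm]
      exact mul_nonneg (mul_self_nonneg _) hwr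
    rw [Complex.ratCast_re] at h1
    exact_mod_cast h1
  rw [← trQ_toEnd0] at h0
  simp only [map_mul, Polynomial.aeval_X, ← hG] at h0
  rw [smul_mul_assoc, smul_mul_smul_comm, map_smul, smul_eq_mul] at h0
  exact nonneg_of_mul_nonneg_right h0 (mul_pos (by exact_mod_cast hb) (by exact_mod_cast hb))

theorem mul_comm_QAdj (α : EndAV.End A) (a b : EndAV.QAdj α) : a * b = b * a := by
  obtain ⟨a, ha⟩ := a
  obtain ⟨b, hb⟩ := b
  refine Subtype.ext ?_
  show a * b = b * a
  rw [EndAV.QAdj, Algebra.adjoin_singleton_eq_range_aeval] at ha hb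
  obtain ⟨p, rfl⟩ := ha
  obtain ⟨q, rfl⟩ := hb
  exact ((Commute.all p q).map (Polynomial.aeval (R := ℚ) (EndAV.toEnd0 α)).toRingHom).eq

theorem finite_QAdj (α : EndAV.End A) : Module.Finite ℚ (EndAV.QAdj α) := by
  haveI : Module.Finite ℤ (EndAV.End A) := AVHomForm.moduleFinite_hom (A := A) (B := A)
  haveI : Module.Finite ℚ (EndAV.End0 A) := Module.Finite.base_change ℤ ℚ _
  exact FiniteDimensional.finiteDimensional_submodule (EndAV.QAdj α).toSubmodule

theorem eval_subtype_sum {α : EndAV.End A} {n : ℕ} (y : Fin n → EndAV.QAdj α) {x : EndAV.QAdj α}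
    (h : x = ∑ i, y i ^ 2) : (x : EndAV.End0 A) = ∑ i, (y i : EndAV.End0 A) ^ 2 := by
  rw [h, AddSubmonoidClass.coe_finsetSum]
  rfl

/-- **Positive symmetric endomorphisms are sums of squares in `ℚ[α]`.** -/
theorem exists_squares (hL : CohB1.IsAmple L) (hM : PicF.IsInvertible M) (s : Coh.structureModule A.left ⟶ M)
    (hs : s ≠ 0) {α : EndAV.End A} (hα : α ≠ 0) (hsym : Adj hL.1 α α) {m : ℕ} (hm : 0 < m)
    (h : Corr hL.1 hM ((m : EndAV.End A) * α)) :
    ∃ (n : ℕ) (y : Fin n → EndAV.End0 A), (∀ i, y i ∈ EndAV.QAdj α) ∧ EndAV.toEnd0 α = ∑ i, y i ^ 2 := by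
  haveI := finite_QAdj α
  obtain ⟨g, hg⟩ := TorsPtsLib.exists_dim A
  obtain ⟨P, hPm, hPd, hP⟩ := exists_isDegPoly hg α
  have hroots := roots_nonneg hg hL hM s hs hm h hPm hPd hP
  let x : EndAV.QAdj α := ⟨EndAV.toEnd0 α, Algebra.subset_adjoin rfl⟩
  have hp : ∀ y : EndAV.QAdj α, y ≠ 0 → 0 < (trQ.comp (EndAV.QAdj α).val.toLinearMap) (y * y) := fun y hy => by
    rw [LinearMap.comp_apply, AlgHom.toLinearMap_apply, Subalgebra.coe_val, Subalgebra.coe_mul]
    exact trQ_sq_pos hL hsym y.2 fun h0 => hy (Subtype.ext h0)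
  have hn : ∀ y : EndAV.QAdj α, 0 ≤ (trQ.comp (EndAV.QAdj α).val.toLinearMap) (y * x * y) := fun y => by
    rw [LinearMap.comp_apply, AlgHom.toLinearMap_apply, Subalgebra.coe_val, Subalgebra.coe_mul, Subalgebra.coe_mul]
    exact trQ_sandwich_nonneg hg hPm hPd hP hroots y.2
  have hx : x ≠ 0 := fun h0 => hα (toEnd0_injective (by
    have h1 := congrArg Subtype.val h0
    rw [map_zero]
    exact h1))
  have h2 := fun (σ : EndAV.QAdj α →ₗ[ℚ] ℚ) hp => exists_sq_sum_comm (R := EndAV.QAdj α) (mul_comm_QAdj α) σ hp (x := x)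
  have h3 := fun hp' hx' hn' => h2 (trQ.comp (EndAV.QAdj α).val.toLinearMap) hp' hx' hn'
  have h4 := fun hx' hn' => h3 hp hx' hn'
  have h5 := h4 hx hn
  obtain ⟨n, y, hsum⟩ := h5
  exact ⟨n, fun i => (y i : EndAV.End0 A), fun i => (y i).2, eval_subtype_sum y hsum⟩

/-- **Sums of squares in `ℚ[α]` are sums of integral squares up to an integer.** -/
theorem exists_int_squares {α : EndAV.End A} {n : ℕ} {y : Fin n → EndAV.End0 A} (hy : ∀ i, y i ∈ EndAV.QAdj α)
    (hsum : EndAV.toEnd0 α = ∑ i, y i ^ 2) :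
    ∃ (N : ℕ) (G : Fin n → Polynomial ℤ), 0 < N ∧
      (N : EndAV.End A) * α = ∑ i, Polynomial.aeval α (G i) * Polynomial.aeval α (G i) := by
  choose b G hb hG using fun i => exists_mem_QAdj (hy i)
  let c : Fin n → ℕ := fun i => ∏ j ∈ Finset.univ.erase i, b j
  refine ⟨(∏ i, b i) ^ 2, fun i => (c i : Polynomial ℤ) * G i, pow_pos (Finset.prod_pos fun i _ => hb i) 2,
    toEnd0_injective ?_⟩
  rw [map_mul, map_natCast, hsum, Finset.mul_sum, map_sum]
  refine Finset.sum_congr rfl fun i _ => ?_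
  have hc : (c i : ℕ) * b i = ∏ j, b j := by rw [Finset.prod_erase_mul _ _ (Finset.mem_univ i)]
  rw [map_mul, map_mul, map_mul, map_natCast, map_natCast, ← hG i, ← hc,
    ← nsmul_eq_mul, ← nsmul_eq_mul, ← Nat.cast_smul_eq_nsmul ℚ (c i), ← Nat.cast_smul_eq_nsmul ℚ, smul_smul,
    smul_mul_smul_comm, ← pow_two (y i)]
  congr 1
  push_cast
  ring

end Groth.Agent.AVTrace
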